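import Mathlib
import Cfsg.Agent.Mrg.Omega.OM.Dich
import Cfsg.Agent.Mrg.Omega.OM.YThm.PlugA

-- merged: Cfsg.Agent.Omega.OM.FourF.Alg
section

/-!
# THEOREM F4 (#20047), the algebra of `SL₂(4)`

`K` a field of order 4, `s (x, y) = (x², y²)`, `e (x, y) = (x + y, y)` on `K × K`.

* `lemA` : line preserving `M`, `f` of order 3 permuting `e, s, s e` is impossible;
* `lemB` : if some element of `M ≥ SL₂(4)` does not preserve the lines, then every line `C(s)`, `C(s e)` is the image of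
  `Z = {(z, 0)}` under `M`;
* `lemAB` : `f` of odd order, fixing `(1, 0)` and normalising `⟨e, s⟩`: `f Z = m Z` for some `m ∈ M`.
-/

set_option autoImplicit false

namespace Cfsg.Agent.Omega.OM.FourF

variable {K : Type*} [Field K] [CharP K 2]

/-! ### The field of order four -/

omit [CharP K 2] in
theorem pow4 (hK : Nat.card K = 4) (x : K) : x * x * (x * x) = x := by
  have : Finite K := Nat.finite_of_card_ne_zero (by omega)
  have := Fintype.ofFinite K
  have h := FiniteField.pow_card x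
  rw [← Nat.card_eq_fintype_card, hK] at h
  linear_combination h

theorem two0 : (2 : K) = 0 := CharTwo.two_eq_zero

theorem root (hK : Nat.card K = 4) {y : K} (h0 : y ≠ 0) (h1 : y ≠ 1) : y * y = y + 1 := by
  have h := pow4 hK y
  have e : y * (y - 1) * (y * y + y + 1) = 0 := by linear_combination h
  rcases mul_eq_zero.1 e with h2 | h2
  · rcases mul_eq_zero.1 h2 with h3 | h3
    · exact absurd h3 h0
    · exact absurd (sub_eq_zero.1 h3) h1
  · linear_combination h2 - (y + 1) * two0 (K := K)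

theorem cases4 (hK : Nat.card K = 4) {y : K} (h0 : y ≠ 0) (h1 : y ≠ 1) (x : K) :
    x = 0 ∨ x = 1 ∨ x = y ∨ x = y + 1 := by
  by_cases hx0 : x = 0
  · exact Or.inl hx0
  by_cases hx1 : x = 1
  · exact Or.inr (Or.inl hx1)
  have hx := root hK hx0 hx1
  have hy := root hK h0 h1
  have e : (x - y) * (x - (y + 1)) = 0 := by
    linear_combination hx + hy + (1 + y - x * y) * two0 (K := K)
  rcases mul_eq_zero.1 e with h2 | h2
  · exact Or.inr (Or.inr (Or.inl (sub_eq_zero.1 h2)))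
  · exact Or.inr (Or.inr (Or.inr (sub_eq_zero.1 h2)))

theorem add_self0 (x : K) : x + x = 0 := CharTwo.add_self_eq_zero x

omit [CharP K 2] in
theorem exists_om (hK : Nat.card K = 4) : ∃ y : K, y ≠ 0 ∧ y ≠ 1 := by
  classical
  have : Finite K := Nat.finite_of_card_ne_zero (by omega)
  have := Fintype.ofFinite K
  by_contra hcon
  push Not at hcon
  have h1 : (Finset.univ : Finset K) ⊆ {0, 1} := by
    intro y _
    by_cases h : y = 0
    · simp [h]
    · simp [hcon y h]
  have h2 := Finset.card_le_card h1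
  rw [Finset.card_univ, ← Nat.card_eq_fintype_card, hK] at h2
  have h3 : ({0, 1} : Finset K).card ≤ 2 := Finset.card_le_two
  omega

/-- additive maps of order 3 of a field of order 4 are multiplications. -/
theorem phi_mul (hK : Nat.card K = 4) (φ : K → K) (hadd : ∀ x y, φ (x + y) = φ x + φ y)
    (h3 : ∀ x, φ (φ (φ x)) = x) (c : K) : φ c = φ 1 * c := by
  have h0 : φ 0 = 0 := by
    have := hadd 0 0
    rw [add_zero] at this
    exact left_eq_add.1 this
  have hinj : ∀ x y, φ x = φ y → x = y := by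
    intro x y h
    rw [← h3 x, h, h3 y]
  have hne : φ 1 ≠ 0 := fun h => one_ne_zero (hinj _ _ (h.trans h0.symm))
  by_cases h1 : φ 1 = 1
  · obtain ⟨y, hy0, hy1⟩ := exists_om hK
    have hφy : φ y = y := by
      rcases cases4 hK hy0 hy1 (φ y) with h | h | h | h
      · exact absurd (hinj _ _ (h.trans h0.symm)) hy0
      · exact absurd (hinj _ _ (h.trans h1.symm)) hy1
      · exact h
      · exfalso
        have h4 : φ (y + 1) = y := by
          rw [hadd, h, h1, add_assoc, add_self0, add_zero]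
        have h5 := h3 y
        rw [h, h4, h] at h5
        exact one_ne_zero (add_eq_left.1 h5)
    rw [h1, one_mul]
    rcases cases4 hK hy0 hy1 c with h | h | h | h
    · rw [h, h0]
    · rw [h, h1]
    · rw [h, hφy]
    · rw [h, hadd, hφy, h1]
  · set l := φ 1 with hl
    have hr := root hK hne h1
    have hφl : φ l = l + 1 := by
      rcases cases4 hK hne h1 (φ l) with h | h | h | h
      · exact absurd (hinj _ _ (h.trans h0.symm)) hne
      · exfalso
        have h5 := h3 1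
        rw [← hl, h, ← hl] at h5
        exact h1 h5
      · exact absurd (hinj _ _ h) h1
      · exact h
    rcases cases4 hK hne h1 c with h | h | h | h
    · rw [h, h0, mul_zero]
    · rw [h, ← hl, mul_one]
    · rw [h, hφl, hr]
    · rw [h, hadd, hφl, ← hl, mul_add, hr, mul_one]

/-- additive injections of a field of order 4 which fix 1 are involutions. -/
theorem phi_invol (hK : Nat.card K = 4) (φ : K → K) (hadd : ∀ x y, φ (x + y) = φ x + φ y)
    (hinj : ∀ x y, φ x = φ y → x = y) (h1 : φ 1 = 1) (c : K) : φ (φ c) = c := by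
  have h0 : φ 0 = 0 := by
    have := hadd 0 0
    rw [add_zero] at this
    exact left_eq_add.1 this
  obtain ⟨y, hy0, hy1⟩ := exists_om hK
  have hφy : φ (φ y) = y := by
    rcases cases4 hK hy0 hy1 (φ y) with h | h | h | h
    · exact absurd (hinj _ _ (h.trans h0.symm)) hy0
    · exact absurd (hinj _ _ (h.trans h1.symm)) hy1
    · rw [h, h]
    · rw [h, hadd, h, h1, add_assoc, add_self0, add_zero]
  rcases cases4 hK hy0 hy1 c with h | h | h | h
  · rw [h, h0, h0]
  · rw [h, h1, h1]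
  · rw [h, hφy]
  · rw [h, hadd, hadd, hφy, h1, h1]

/-- a line preserving additive map of order 3 which commutes with `e` is a scalar. -/
theorem scalar (hK : Nat.card K = 4) (w : K × K → K × K) (hadd : ∀ p q, w (p + q) = w p + w q) (hwe : ∀ p : K × K, w (p.1 + p.2, p.2) = ((w p).1 + (w p).2, (w p).2))
    (h3 : ∀ p, w (w (w p)) = p) (hl : ∀ (c : K) p, ∃ c' : K, w (c • p) = c' • w p) :
    ∃ l : K, ∀ p, w p = (l * p.1, l * p.2) := by
  -- `w (y, 0) = (second coordinate, 0)`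
  have hz : ∀ x y : K, w (y, 0) = ((w (x, y)).2, 0) := by
    intro x y
    have h1 := hwe (x, y)
    simp only at h1
    have e : ((x + y, y) : K × K) = (x, y) + (y, 0) := by simp
    rw [e, hadd] at h1
    have h2 : w (y, 0) = ((w (x, y)).1 + (w (x, y)).2, (w (x, y)).2) - w (x, y) := by
      rw [← h1]; abel
    rw [h2]
    ext
    · simp
    · simp
  set φ : K → K := fun y => (w (y, 0)).1 with hφ
  have hwz : ∀ y, w (y, 0) = (φ y, 0) := by
    intro y
    have := hz 0 y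
    rw [this]
    rw [hφ]
    simp only
    rw [this]
  have hw2 : ∀ x y, (w (x, y)).2 = φ y := by
    intro x y
    rw [hφ]
    simp only
    rw [hz x y]
  have hφa : ∀ x y, φ (x + y) = φ x + φ y := by
    intro x y
    have h1 := hadd (x, 0) (y, 0)
    rw [hwz, hwz] at h1
    have e : ((x, 0) : K × K) + (y, 0) = (x + y, 0) := by simp
    rw [e, hwz] at h1
    exact congrArg Prod.fst h1
  have hφ3 : ∀ x, φ (φ (φ x)) = x := by
    intro x
    have h1 := h3 (x, 0)
    rw [hwz, hwz, hwz] at h1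
    exact congrArg Prod.fst h1
  have hφm := phi_mul hK φ hφa hφ3
  set l := φ 1 with hl'
  have hl0 : l ≠ 0 := by
    intro h
    have h1 := hφ3 1
    rw [← hl', h, hφm 0, mul_zero, hφm 0, mul_zero] at h1
    exact zero_ne_one h1
  -- the other coordinate
  set ψ : K → K := fun y => (w (0, y)).1 with hψ
  have hw01 : ∀ y, w (0, y) = (ψ y, l * y) := by
    intro y
    ext
    · rfl
    · rw [hw2, hφm]
  have hψc : ∀ c, ψ c = c * ψ 1 := by
    intro c
    obtain ⟨c', hc'⟩ := hl c (0, 1)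
    have e : c • ((0, 1) : K × K) = (0, c) := by simp
    rw [e, hw01, hw01] at hc'
    have h1 := congrArg Prod.fst hc'
    have h2 := congrArg Prod.snd hc'
    simp only [Prod.smul_mk, smul_eq_mul] at h1 h2
    have h4 : c = c' := by
      apply mul_left_cancel₀ hl0
      linear_combination h2
    rw [h1, ← h4]
  have hw : ∀ x y, w (x, y) = (l * x + y * ψ 1, l * y) := by
    intro x y
    have e : ((x, y) : K × K) = (x, 0) + (0, y) := by simp
    rw [e, hadd, hwz, hw01, hφm, hψc]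
    simp
  have hψ1 : ψ 1 = 0 := by
    have h1 := h3 (0, 1)
    rw [hw, hw, hw] at h1
    have h2 := congrArg Prod.fst h1
    simp only at h2
    have h4 : l * l * ψ 1 = 0 := by linear_combination h2 - (l * l * ψ 1) * two0 (K := K)
    rcases mul_eq_zero.1 h4 with h5 | h5
    · exact absurd (mul_self_eq_zero.1 h5) hl0
    · exact h5
  refine ⟨l, fun p => ?_⟩
  obtain ⟨x, y⟩ := p
  rw [hw, hψ1]
  simp

/-! ### LEMMA A -/

section

variable {s e : Equiv.Perm (K × K)}

/-- the involution `s` or `s e` centralised by an element of order three of `SL₂(4)` -/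
theorem lemA (hK : Nat.card K = 4) (hs : ∀ p : K × K, s p = (p.1 * p.1, p.2 * p.2))
    (he : ∀ p : K × K, e p = (p.1 + p.2, p.2)) {X M : Subgroup (Equiv.Perm (K × K))} (hMX : M ≤ X)
    (hadd : ∀ x ∈ X, ∀ p q : K × K, x (p + q) = x p + x q)
    (hZ : ∀ x ∈ X, (∀ z : K, (x (z, 0)).2 = 0) → x ∈ M)
    (hl : ∀ m ∈ M, ∀ (c : K) p, ∃ c' : K, m (c • p) = c' • m p)
    (hSL : ∀ a b c d : K, a * d - b * c = 1 → ∃ m ∈ M, ∀ p : K × K, m p = (a * p.1 + b * p.2, c * p.1 + d * p.2))
    {f : Equiv.Perm (K × K)} (hfX : ∀ x ∈ X, f * x * f⁻¹ ∈ X) (hfX' : ∀ x ∈ X, f⁻¹ * x * f ∈ X)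
    (h1 : f * e * f⁻¹ = s) (h3 : f * (s * e) * f⁻¹ = e) (hf3 : f * f * f = 1) : False := by
  obtain ⟨om, ho0, ho1⟩ := exists_om hK
  have hr := root hK ho0 ho1
  have h2 := two0 (K := K)
  obtain ⟨u, huM, hu⟩ := hSL 0 1 1 1 (by linear_combination (-1 : K) * h2)
  -- `u₂ = up(om) u up(om)⁻¹`
  obtain ⟨u', huM', hu'⟩ := hSL om 0 1 (om + 1) (by linear_combination hr + om * h2)
  have key : ∀ w ∈ X, w * e = e * w → w * w * w = 1 → w ∈ M ∧ ∃ l : K, ∀ p, w p = (l * p.1, l * p.2) := by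
    intro w hwX hwe hw3
    have hwe' : ∀ p : K × K, w (p.1 + p.2, p.2) = ((w p).1 + (w p).2, (w p).2) := by
      intro p
      have := DFunLike.congr_fun hwe p
      rw [Equiv.Perm.mul_apply, Equiv.Perm.mul_apply, he, he] at this
      exact this
    have hwM : w ∈ M := by
      refine hZ w hwX fun z => ?_
      have h4 := hwe' (z, 0)
      simp only [add_zero] at h4
      have h5 := congrArg Prod.fst h4
      simp only at h5
      exact left_eq_add.1 h5
    refine ⟨hwM, scalar hK w (hadd w hwX) hwe' (fun p => ?_) (hl w hwM)⟩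
    have := DFunLike.congr_fun hw3 p
    rwa [Equiv.Perm.mul_apply, Equiv.Perm.mul_apply, Equiv.Perm.one_apply] at this
  -- `u`, `u'`
  have hus : u * s = s * u := by
    ext p : 1
    rw [Equiv.Perm.mul_apply, Equiv.Perm.mul_apply, hu, hs, hs, hu]
    ext
    · simp only; ring
    · simp only; linear_combination (-(p.1 * p.2)) * h2
  have hu's : u' * (s * e) = s * e * u' := by
    ext p : 1
    rw [Equiv.Perm.mul_apply, Equiv.Perm.mul_apply, Equiv.Perm.mul_apply, Equiv.Perm.mul_apply, hu', he, hs, hs, he, hu']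
    ext
    · simp only
      linear_combination (-(p.1 + p.2) * (p.1 + p.2)) * hr - (om + 1) * (p.1 + p.2) ^ 2 * h2
    · simp only
      linear_combination (-(p.2 * p.2)) * hr - om * (p.1 * p.2 + p.2 * p.2) * h2
  have hu3 : u * u * u = 1 := by
    ext p : 1
    rw [Equiv.Perm.mul_apply, Equiv.Perm.mul_apply, Equiv.Perm.one_apply, hu, hu, hu]
    ext
    · simp only; linear_combination p.2 * h2
    · simp only; linear_combination (p.1 + p.2) * h2
  have hu'3 : u' * u' * u' = 1 := by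
    ext p : 1
    rw [Equiv.Perm.mul_apply, Equiv.Perm.mul_apply, Equiv.Perm.one_apply, hu', hu', hu']
    ext
    · simp only
      linear_combination (om + 1) * p.1 * hr + om * p.1 * h2
    · simp only
      linear_combination (3 * p.1 + om * p.2) * hr + (p.1 * (3 * om + 2) + p.2 * (2 * om * om + 2 * om)) * h2
  -- `w`, `w'`
  have hwe : f⁻¹ * u * f * e = e * (f⁻¹ * u * f) := by
    have h4 : f * e = s * f := by rw [← h1]; group
    have h5 : f⁻¹ * s = e * f⁻¹ := by rw [← h1]; group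
    calc f⁻¹ * u * f * e = f⁻¹ * u * (f * e) := by group
      _ = f⁻¹ * (u * s) * f := by rw [h4]; group
      _ = (f⁻¹ * s) * u * f := by rw [hus]; group
      _ = _ := by rw [h5]; group
  have hwe' : f * u' * f⁻¹ * e = e * (f * u' * f⁻¹) := by
    have h4 : f⁻¹ * e = s * e * f⁻¹ := by
      nth_rewrite 1 [← h3]
      group
    have h5 : f * (s * e) = e * f := by
      nth_rewrite 2 [← h3]
      group
    calc f * u' * f⁻¹ * e = f * u' * (f⁻¹ * e) := by group
      _ = f * (u' * (s * e)) * f⁻¹ := by rw [h4]; group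
      _ = (f * (s * e)) * u' * f⁻¹ := by rw [hu's]; group
      _ = _ := by rw [h5]; group
  obtain ⟨w, hwd⟩ : ∃ w, w = f⁻¹ * u * f := ⟨_, rfl⟩
  obtain ⟨w', hw'd⟩ : ∃ w', w' = f * u' * f⁻¹ := ⟨_, rfl⟩
  obtain ⟨-, l, hw⟩ := key _ (hfX' u (hMX huM)) hwe (by
    calc f⁻¹ * u * f * (f⁻¹ * u * f) * (f⁻¹ * u * f) = f⁻¹ * (u * u * u) * f := by group
      _ = 1 := by rw [hu3]; group)
  obtain ⟨-, l', hw'⟩ := key _ (hfX u' (hMX huM')) hwe' (by
    calc f * u' * f⁻¹ * (f * u' * f⁻¹) * (f * u' * f⁻¹) = f * (u' * u' * u') * f⁻¹ := by group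
      _ = 1 := by rw [hu'3]; group)
  rw [← hwd] at hw
  rw [← hw'd] at hw'
  -- `u` commutes with `w`
  have huw : u * w = w * u := by
    ext p : 1
    rw [Equiv.Perm.mul_apply, Equiv.Perm.mul_apply, hw, hu, hu, hw]
    ext
    · simp only; ring
    · simp only; ring
  have hffu : f * u * f⁻¹ * u = u * (f * u * f⁻¹) := by
    have h4 : f * (u * w) * f⁻¹ = f * (w * u) * f⁻¹ := by rw [huw]
    rw [hwd] at h4
    have e1 : f * (u * (f⁻¹ * u * f)) * f⁻¹ = f * u * f⁻¹ * u := by group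
    have e2 : f * (f⁻¹ * u * f * u) * f⁻¹ = u * (f * u * f⁻¹) := by group
    rwa [e1, e2] at h4
  have hl0 : l ≠ 0 := by
    intro h0
    have h4 := hw (1, 0)
    rw [h0, zero_mul, zero_mul] at h4
    have h5 := hw (0, 0)
    rw [mul_zero] at h5
    have h6 := w.injective (h4.trans h5.symm)
    exact one_ne_zero (congrArg Prod.fst h6)
  have hl1 : l ≠ 1 := by
    intro h0
    have h4 : w = 1 := by
      ext p : 1
      rw [hw, h0, one_mul, one_mul, Equiv.Perm.one_apply]
    have h5 : u = 1 := by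
      have : u = f * (f⁻¹ * u * f) * f⁻¹ := by group
      rw [this, ← hwd, h4]; group
    have h6 := hu (1, 0)
    rw [h5, Equiv.Perm.one_apply] at h6
    have h7 := congrArg Prod.snd h6
    simp at h7
  have hl'0 : l' ≠ 0 := by
    intro h0
    have h4 := hw' (1, 0)
    rw [h0, zero_mul, zero_mul] at h4
    have h5 := hw' (0, 0)
    rw [mul_zero] at h5
    have h6 := w'.injective (h4.trans h5.symm)
    exact one_ne_zero (congrArg Prod.fst h6)
  have hl'1 : l' ≠ 1 := by
    intro h0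
    have h4 : w' = 1 := by
      ext p : 1
      rw [hw', h0, one_mul, one_mul, Equiv.Perm.one_apply]
    have h5 : u' = 1 := by
      have : u' = f⁻¹ * (f * u' * f⁻¹) * f := by group
      rw [this, ← hw'd, h4]; group
    have h6 := hu' (1, 0)
    rw [h5, Equiv.Perm.one_apply] at h6
    have h7 := congrArg Prod.snd h6
    simp at h7
  have hcomm : u * u' = u' * u := by
    have hf2 : f⁻¹ * f⁻¹ = f := by
      calc f⁻¹ * f⁻¹ = f⁻¹ * f⁻¹ * f⁻¹ * f := by group
        _ = (f * f * f)⁻¹ * f := by group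
        _ = f := by rw [hf3]; group
    have hf2' : f * f = f⁻¹ := by
      calc f * f = (f * f * f) * f⁻¹ := by group
        _ = f⁻¹ := by rw [hf3]; group
    rcases cases4 hK hl0 hl1 l' with h | h | h | h
    · exact absurd h hl'0
    · exact absurd h hl'1
    · have h4 : f * u' * f⁻¹ = f⁻¹ * u * f := by
        rw [← hwd, ← hw'd]
        ext p : 1
        rw [hw', hw, h]
      have h5 : u' = f * u * f⁻¹ := by
        calc u' = f⁻¹ * (f * u' * f⁻¹) * f := by group
          _ = (f⁻¹ * f⁻¹) * u * (f * f) := by rw [h4]; group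
          _ = _ := by rw [hf2, hf2']
      rw [h5]
      exact hffu.symm
    · have h4 : f * u' * f⁻¹ = f⁻¹ * u * f * (f⁻¹ * u * f) := by
        rw [← hwd, ← hw'd]
        ext p : 1
        rw [Equiv.Perm.mul_apply, hw', hw, hw, h]
        have h6 := root hK hl0 hl1
        ext
        · simp only; linear_combination (-p.1) * h6
        · simp only; linear_combination (-p.2) * h6
      have h5 : u' = f * u * f⁻¹ * (f * u * f⁻¹) := by
        calc u' = f⁻¹ * (f * u' * f⁻¹) * f := by group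
          _ = (f⁻¹ * f⁻¹) * u * (f * f) * ((f⁻¹ * f⁻¹) * u * (f * f)) := by rw [h4]; group
          _ = _ := by rw [hf2, hf2']
      rw [h5, ← mul_assoc, ← hffu, mul_assoc, ← hffu, ← mul_assoc]
  have h4 := DFunLike.congr_fun hcomm (1, 0)
  rw [Equiv.Perm.mul_apply, Equiv.Perm.mul_apply, hu', hu, hu, hu'] at h4
  have h5 := congrArg Prod.fst h4
  simp at h5

/-! ### LEMMA B -/

theorem lemB (hK : Nat.card K = 4) (hs : ∀ p : K × K, s p = (p.1 * p.1, p.2 * p.2)) {M : Subgroup (Equiv.Perm (K × K))}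
    (hadd : ∀ x ∈ M, ∀ p q : K × K, x (p + q) = x p + x q)
    (hSL : ∀ a b c d : K, a * d - b * c = 1 → ∃ m ∈ M, ∀ p : K × K, m p = (a * p.1 + b * p.2, c * p.1 + d * p.2))
    (hsM : ∀ m ∈ M, s * m * s⁻¹ ∈ M)
    (hnl : ∃ m ∈ M, ∃ (c : K) (p : K × K), ∀ c' : K, m (c • p) ≠ c' • m p) (x₀ : K) :
    ∃ m ∈ M, m (1, 0) = (1, 0) ∧ ∃ z, m (z, 0) = (x₀, 1) := by
  by_contra hcon
  push Not at hcon
  -- the set `R`
  let R : K × K → Prop := fun v => ∃ m ∈ M, m (1, 0) = (1, 0) ∧ ∃ z, m (z, 0) = v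
  have hR1 : ∀ g ∈ M, g (1, 0) = (1, 0) → ∀ v, R v → R (g v) := by
    rintro g hg hg1 v ⟨m, hm, hm1, z, hz⟩
    refine ⟨g * m, mul_mem hg hm, ?_, z, ?_⟩
    · rw [Equiv.Perm.mul_apply, hm1, hg1]
    · rw [Equiv.Perm.mul_apply, hz]
  have hR2 : ∀ x y x', y ≠ 0 → R (x, y) → R (x', y) := by
    intro x y x' hy h
    obtain ⟨m, hm, hm'⟩ := hSL 1 ((x' - x) / y) 0 1 (by ring)
    have h1 := hR1 m hm (by rw [hm']; simp) _ h
    rw [hm'] at h1
    have e : (1 * x + (x' - x) / y * y, 0 * x + 1 * y) = (x', y) := by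
      ext
      · simp only; rw [div_mul_cancel₀ _ hy]; ring
      · simp only; ring
    rwa [e] at h1
  have hR3 : ∀ v, R v → R (s v) := by
    rintro v ⟨m, hm, hm1, z, hz⟩
    refine ⟨s * m * s⁻¹, hsM m hm, ?_, z * z, ?_⟩
    · have e : s⁻¹ (1, 0) = (1, 0) := by
        rw [Equiv.Perm.inv_eq_iff_eq, hs]; simp
      rw [Equiv.Perm.mul_apply, Equiv.Perm.mul_apply, e, hm1, hs]; simp
    · have e : s⁻¹ (z * z, 0) = (z, 0) := by
        rw [Equiv.Perm.inv_eq_iff_eq, hs]; simp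
      rw [Equiv.Perm.mul_apply, Equiv.Perm.mul_apply, e, hz]
  have hR0 : ∀ z, R (z, 0) := fun z => ⟨1, one_mem _, rfl, z, rfl⟩
  have hR4 : ∀ x, ¬ R (x, 1) := by
    intro x h
    obtain ⟨m, hm, hm1, z, hz⟩ := hR2 x 1 x₀ one_ne_zero h
    exact hcon m hm hm1 z hz
  -- all elements of `M` which fix `(1, 0)` normalise `Z`
  have hZ : ∀ g ∈ M, g (1, 0) = (1, 0) → ∀ z, (g (z, 0)).2 = 0 := by
    intro g hg hg1 z
    by_contra hy
    set y := (g (z, 0)).2 with hyd
    have hRy : ∀ x, R (x, y) := fun x =>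
      hR2 (g (z, 0)).1 y x hy (hR1 g hg hg1 _ (hR0 z))
    have hy1 : y ≠ 1 := fun h => hR4 0 (h ▸ hRy 0)
    have hRy2 : ∀ x, R (x, y + 1) := by
      intro x
      have h1 := hR3 _ (hRy 0)
      rw [hs] at h1
      simp only at h1
      rw [root hK hy hy1] at h1
      refine hR2 _ _ x (fun h => hy1 ?_) h1
      linear_combination h - two0 (K := K)
    -- `R` is the complement of `{(x, 1)}`
    have hRiff : ∀ v : K × K, v.2 ≠ 1 → R v := by
      rintro ⟨a, b⟩ hb
      simp only at hb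
      rcases cases4 hK hy hy1 b with h | h | h | h
      · rw [h]; exact hR0 a
      · exact absurd h hb
      · rw [h]; exact hRy a
      · rw [h]; exact hRy2 a
    have hg' : ∀ v : K × K, v.2 = 1 → (g v).2 = 1 := by
      intro v hv
      by_contra h
      have h1 := hR1 g⁻¹ (inv_mem hg) (by rw [Equiv.Perm.inv_eq_iff_eq, hg1]) _ (hRiff _ h)
      have e5 : g⁻¹ (g v) = v := Equiv.symm_apply_apply g v
      rw [e5] at h1
      have e : v = (v.1, 1) := by rw [← hv]
      rw [e] at h1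
      exact hR4 _ h1
    have h1 := hg' (z, 1) rfl
    have h2 := hg' (0, 1) rfl
    have e : ((z, 1) : K × K) = (z, 0) + (0, 1) := by simp
    rw [e, hadd g hg, Prod.snd_add, h2] at h1
    exact hy (add_eq_right.1 h1)
  -- transitivity
  have htr : ∀ v : K × K, v ≠ 0 → ∃ m ∈ M, m (1, 0) = v ∧ ∀ (c : K) p, m (c • p) = c • m p := by
    rintro ⟨a, c⟩ hv
    have hlin : ∀ m : Equiv.Perm (K × K), ∀ a b c d : K, (∀ p : K × K, m p = (a * p.1 + b * p.2, c * p.1 + d * p.2)) →
        ∀ (k : K) p, m (k • p) = k • m p := by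
      intro m a b c d hm k p
      rw [hm, hm]
      ext
      · simp only [Prod.smul_fst, Prod.smul_snd, smul_eq_mul]; ring
      · simp only [Prod.smul_fst, Prod.smul_snd, smul_eq_mul]; ring
    by_cases ha : a = 0
    · have hc : c ≠ 0 := by
        rintro rfl
        exact hv (by rw [ha]; rfl)
      obtain ⟨m, hm, hm'⟩ := hSL a (-c⁻¹) c 0 (by field_simp; ring)
      exact ⟨m, hm, by rw [hm']; simp, hlin m _ _ _ _ hm'⟩
    · obtain ⟨m, hm, hm'⟩ := hSL a 0 c a⁻¹ (by field_simp; ring)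
      exact ⟨m, hm, by rw [hm']; simp, hlin m _ _ _ _ hm'⟩
  obtain ⟨m₀, hm₀, c, p, hnl⟩ := hnl
  have h00 : m₀ 0 = 0 := by
    have h1 := hadd m₀ hm₀ 0 0
    rw [add_zero] at h1
    exact left_eq_add.1 h1
  have hp : p ≠ 0 := by
    rintro rfl
    refine hnl 0 ?_
    rw [smul_zero, h00, smul_zero]
  have hmp : m₀ p ≠ 0 := fun h => hp (m₀.injective (h.trans h00.symm))
  obtain ⟨a, ha, ha1, ha2⟩ := htr p hp
  obtain ⟨b, hb, hb1, hb2⟩ := htr (m₀ p) hmp
  have h1 := hZ (b⁻¹ * m₀ * a) (mul_mem (mul_mem (inv_mem hb) hm₀) ha) (by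
    rw [Equiv.Perm.mul_apply, Equiv.Perm.mul_apply, ha1, Equiv.Perm.inv_eq_iff_eq, hb1]) c
  rw [Equiv.Perm.mul_apply, Equiv.Perm.mul_apply] at h1
  have e1 : a (c, 0) = c • p := by
    have : ((c, 0) : K × K) = c • (1, 0) := by simp
    rw [this, ha2, ha1]
  rw [e1] at h1
  set t := b⁻¹ (m₀ (c • p)) with ht
  have h2 : m₀ (c • p) = b t := (Equiv.apply_symm_apply b _).symm
  have h3 : t = t.1 • ((1, 0) : K × K) := by
    ext
    · simp
    · simp [h1]
  refine hnl t.1 ?_
  rw [h2]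
  nth_rewrite 1 [h3]
  rw [hb2, hb1]

/-! ### LEMMA AB -/

theorem cent4 (hK : Nat.card K = 4) (hs : ∀ p : K × K, s p = (p.1 * p.1, p.2 * p.2))
    (he : ∀ p : K × K, e p = (p.1 + p.2, p.2)) {g : Equiv.Perm (K × K)} (hadd : ∀ p q : K × K, g (p + q) = g p + g q)
    (hg1 : g (1, 0) = (1, 0)) (hge : g * e = e * g) (hgs : g * s = s * g) : g * g * (g * g) = 1 := by
  have h2 := two0 (K := K)
  have hge' : ∀ p : K × K, g (p.1 + p.2, p.2) = ((g p).1 + (g p).2, (g p).2) := by
    intro p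
    have := DFunLike.congr_fun hge p
    rw [Equiv.Perm.mul_apply, Equiv.Perm.mul_apply, he, he] at this
    exact this
  have hgs' : ∀ p : K × K, g (p.1 * p.1, p.2 * p.2) = ((g p).1 * (g p).1, (g p).2 * (g p).2) := by
    intro p
    have := DFunLike.congr_fun hgs p
    rw [Equiv.Perm.mul_apply, Equiv.Perm.mul_apply, hs, hs] at this
    exact this
  have h0 : g 0 = 0 := by
    have := hadd 0 0
    rw [add_zero] at this
    exact left_eq_add.1 this
  have hz : ∀ x y : K, g (y, 0) = ((g (x, y)).2, 0) := by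
    intro x y
    have h1 := hge' (x, y)
    simp only at h1
    have e : ((x + y, y) : K × K) = (x, y) + (y, 0) := by simp
    rw [e, hadd] at h1
    have h2 : g (y, 0) = ((g (x, y)).1 + (g (x, y)).2, (g (x, y)).2) - g (x, y) := by
      rw [← h1]; abel
    rw [h2]
    ext
    · simp
    · simp
  set φ : K → K := fun y => (g (y, 0)).1 with hφ
  have hgz : ∀ y, g (y, 0) = (φ y, 0) := by
    intro y
    have := hz 0 y
    rw [this]
    rw [hφ]
    simp only
    rw [this]
  have hg2 : ∀ x y, (g (x, y)).2 = φ y := by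
    intro x y
    rw [hφ]
    simp only
    rw [hz x y]
  have hφa : ∀ x y, φ (x + y) = φ x + φ y := by
    intro x y
    have h1 := hadd (x, 0) (y, 0)
    rw [hgz, hgz] at h1
    have e : ((x, 0) : K × K) + (y, 0) = (x + y, 0) := by simp
    rw [e, hgz] at h1
    exact congrArg Prod.fst h1
  have hφ1 : φ 1 = 1 := by
    have h1 := hgz 1
    rw [hg1] at h1
    exact (congrArg Prod.fst h1).symm
  have hφ0 : φ 0 = 0 := by
    have h1 := hgz 0
    have h3 : ((0, 0) : K × K) = 0 := rfl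
    rw [h3, h0] at h1
    exact (congrArg Prod.fst h1).symm
  have hφs : ∀ x, φ (x * x) = φ x * φ x := by
    intro x
    have h1 := hgs' (x, 0)
    simp only [mul_zero] at h1
    rw [hgz, hgz] at h1
    exact congrArg Prod.fst h1
  have hφinj : ∀ x y, φ x = φ y → x = y := by
    intro x y h
    have h1 : g (x, 0) = g (y, 0) := by rw [hgz, hgz, h]
    exact congrArg Prod.fst (g.injective h1)
  have hφφ : ∀ c, φ (φ c) = c := by
    obtain ⟨y, hy0, hy1⟩ := exists_om hK
    have hφy : φ (φ y) = y := by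
      rcases cases4 hK hy0 hy1 (φ y) with h | h | h | h
      · exact absurd (hφinj _ _ (h.trans hφ0.symm)) hy0
      · exact absurd (hφinj _ _ (h.trans hφ1.symm)) hy1
      · rw [h, h]
      · rw [h, hφa, h, hφ1, add_assoc, add_self0, add_zero]
    intro c
    rcases cases4 hK hy0 hy1 c with h | h | h | h
    · rw [h, hφ0, hφ0]
    · rw [h, hφ1, hφ1]
    · rw [h, hφy]
    · rw [h, hφa, hφa, hφy, hφ1, hφ1]
  have hgg : ∀ p : K × K, ∃ d : K, g (g p) = p + (d, 0) := by
    rintro ⟨x, y⟩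
    refine ⟨(g (g (x, y))).1 - x, ?_⟩
    ext
    · simp
    · have h1 : (g (g (x, y))).2 = φ (g (x, y)).2 := by
        rw [← hg2 (g (x, y)).1 (g (x, y)).2]
      rw [h1, hg2, hφφ]
      simp
  ext p : 1
  rw [Equiv.Perm.mul_apply, Equiv.Perm.mul_apply, Equiv.Perm.mul_apply, Equiv.Perm.one_apply]
  obtain ⟨d, hd⟩ := hgg p
  rw [hd, hadd, hadd, hd, hgz, hgz, hφφ]
  ext
  · simp only [Prod.fst_add]; linear_combination d * h2
  · simp

/-- If `f` is of odd order and `f² ` centralises `a`, then `f` does. -/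
theorem comm_of_sq {H : Type*} [Group H] {f a : H} (hf : Odd (orderOf f)) (h : f * f * a = a * (f * f)) : f * a = a * f := by
  obtain ⟨n, hn⟩ := hf
  have h1 : (f * f) ^ (n + 1) = f := by
    have h2 : f ^ orderOf f = 1 := pow_orderOf_eq_one f
    rw [hn] at h2
    calc (f * f) ^ (n + 1) = f ^ (2 * n + 1) * f := by
          rw [← pow_two, ← pow_mul, ← pow_succ]; ring_nf
      _ = f := by rw [h2, one_mul]
  have h3 : Commute (f * f) a := h
  have h4 := h3.pow_left (n + 1)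
  rw [h1] at h4
  exact h4

theorem lemAB (hK : Nat.card K = 4) (hs : ∀ p : K × K, s p = (p.1 * p.1, p.2 * p.2))
    (he : ∀ p : K × K, e p = (p.1 + p.2, p.2)) {X M : Subgroup (Equiv.Perm (K × K))} (hMX : M ≤ X)
    (hadd : ∀ x ∈ X, ∀ p q : K × K, x (p + q) = x p + x q)
    (hZ : ∀ x ∈ X, (∀ z : K, (x (z, 0)).2 = 0) → x ∈ M)
    (hSL : ∀ a b c d : K, a * d - b * c = 1 → ∃ m ∈ M, ∀ p : K × K, m p = (a * p.1 + b * p.2, c * p.1 + d * p.2))
    (hsM : ∀ m ∈ M, s * m * s⁻¹ ∈ M)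
    {f : Equiv.Perm (K × K)} (hfadd : ∀ p q : K × K, f (p + q) = f p + f q)
    (hfX : ∀ x ∈ X, f * x * f⁻¹ ∈ X) (hfX' : ∀ x ∈ X, f⁻¹ * x * f ∈ X) (hodd : Odd (orderOf f))
    (hf1 : f (1, 0) = (1, 0)) (hfe : f * e * f⁻¹ = e ∨ f * e * f⁻¹ = s ∨ f * e * f⁻¹ = s * e)
    (hfs : f * s * f⁻¹ = e ∨ f * s * f⁻¹ = s ∨ f * s * f⁻¹ = s * e) :
    ∃ m ∈ M, ∀ z, ∃ z', m (z, 0) = f (z', 0) := by
  have h2 := two0 (K := K)
  have hes : e * s = s * e := by
    ext p : 1
    rw [Equiv.Perm.mul_apply, Equiv.Perm.mul_apply, hs, he, he, hs]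
    ext
    · simp only; linear_combination (-(p.1 * p.2)) * h2
    · simp only
  have hee : e * e = 1 := by
    ext p : 1
    rw [Equiv.Perm.mul_apply, he, he, Equiv.Perm.one_apply]
    ext
    · simp only; linear_combination p.2 * h2
    · simp only
  have hss : s * s = 1 := by
    ext p : 1
    rw [Equiv.Perm.mul_apply, hs, hs, Equiv.Perm.one_apply]
    ext
    · exact pow4 hK p.1
    · exact pow4 hK p.2
  obtain ⟨om, ho0, ho1⟩ := exists_om hK
  -- distinctness
  have hne1 : s ≠ e := by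
    intro h
    have h1 := DFunLike.congr_fun h (om, 0)
    rw [hs, he] at h1
    have h3 := congrArg Prod.fst h1
    simp only [add_zero] at h3
    rw [root hK ho0 ho1] at h3
    exact one_ne_zero (add_eq_left.1 h3)
  have hne2 : s * e ≠ e := by
    intro h
    have h1 : s = 1 := mul_eq_right.1 h
    have h4 := DFunLike.congr_fun h1 (om, 0)
    rw [hs, Equiv.Perm.one_apply] at h4
    have h3 := congrArg Prod.fst h4
    simp only at h3
    rw [root hK ho0 ho1] at h3
    exact one_ne_zero (add_eq_left.1 h3)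
  have hne3 : s * e ≠ s := by
    intro h
    have h1 : e = 1 := mul_eq_left.1 h
    have h4 := DFunLike.congr_fun h1 (0, 1)
    rw [he, Equiv.Perm.one_apply] at h4
    have h3 := congrArg Prod.fst h4
    simp at h3
  -- the second part
  have hB : ∀ t : Equiv.Perm (K × K), f * e * f⁻¹ = t → (t = s ∨ t = s * e) →
      (∃ m ∈ M, ∃ (c : K) (p : K × K), ∀ c' : K, m (c • p) ≠ c' • m p) → ∃ m ∈ M, ∀ z, ∃ z', m (z, 0) = f (z', 0) := by
    intro t ht htc hnl
    -- a point outside `Z` fixed by `t`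
    obtain ⟨x, hx⟩ : ∃ x : K, t (x, 1) = (x, 1) := by
      rcases htc with h | h
      · exact ⟨0, by rw [h, hs]; simp⟩
      · refine ⟨om, ?_⟩
        rw [h, Equiv.Perm.mul_apply, he, hs]
        ext
        · simp only; linear_combination root hK ho0 ho1 + (om + 1) * h2
        · simp only; ring
    have ht1 : t (1, 0) = (1, 0) := by
      rcases htc with h | h
      · rw [h, hs]; simp
      · rw [h, Equiv.Perm.mul_apply, he, hs]; simp
    have htadd : ∀ p q, t (p + q) = t p + t q := by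
      have hsadd : ∀ p q, s (p + q) = s p + s q := by
        intro p q
        rw [hs, hs, hs]
        ext
        · simp only [Prod.fst_add]; linear_combination (p.1 * q.1) * h2
        · simp only [Prod.snd_add]; linear_combination (p.2 * q.2) * h2
      rcases htc with h | h
      · rw [h]; exact hsadd
      · intro p q
        have headd : e (p + q) = e p + e q := by
          rw [he, he, he]
          ext
          · simp only [Prod.fst_add, Prod.snd_add]; ring
          · simp only [Prod.snd_add]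
        rw [h, Equiv.Perm.mul_apply, Equiv.Perm.mul_apply, Equiv.Perm.mul_apply, headd, hsadd]
    obtain ⟨m, hm, hm1, z₁, hz₁⟩ := lemB hK hs (fun x hx => hadd x (hMX hx)) hSL hsM hnl x
    have hmadd := hadd m (hMX hm)
    have hm0 : m 0 = 0 := by
      have := hmadd 0 0
      rw [add_zero] at this
      exact left_eq_add.1 this
    have ht0 : t 0 = 0 := by
      have := htadd 0 0
      rw [add_zero] at this
      exact left_eq_add.1 this
    have hz0 : z₁ ≠ 0 := by
      rintro rfl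
      have h3 : ((0, 0) : K × K) = 0 := rfl
      rw [h3, hm0] at hz₁
      exact one_ne_zero (congrArg Prod.snd hz₁).symm
    have hz1 : z₁ ≠ 1 := by
      rintro rfl
      rw [hm1] at hz₁
      exact one_ne_zero (congrArg Prod.snd hz₁).symm
    refine ⟨m, hm, fun z => ?_⟩
    have hfix : t (m (z, 0)) = m (z, 0) := by
      have h3 : ((0, 0) : K × K) = 0 := rfl
      rcases cases4 hK hz0 hz1 z with h | h | h | h
      · rw [h, h3, hm0, ht0]
      · rw [h, hm1, ht1]
      · rw [h, hz₁, hx]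
      · have h4 : ((z₁ + 1, 0) : K × K) = (z₁, 0) + (1, 0) := by simp
        rw [h, h4, hmadd, htadd, hz₁, hm1, hx, ht1]
    have h5 : e (f⁻¹ (m (z, 0))) = f⁻¹ (m (z, 0)) := by
      have h6 : e * f⁻¹ = f⁻¹ * t := by rw [← ht]; group
      have h7 := DFunLike.congr_fun h6 (m (z, 0))
      rw [Equiv.Perm.mul_apply, Equiv.Perm.mul_apply, hfix] at h7
      exact h7
    rw [he] at h5
    have h6 := congrArg Prod.fst h5
    simp only at h6
    have h7 := add_eq_left.1 h6
    refine ⟨(f⁻¹ (m (z, 0))).1, ?_⟩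
    have h8 : (((f⁻¹ (m (z, 0))).1, 0) : K × K) = f⁻¹ (m (z, 0)) := by
      ext
      · rfl
      · exact h7.symm
    rw [h8]
    exact (Equiv.apply_symm_apply f _).symm
  -- `f³ = 1` if `f³` centralises `e`, `s`
  have hf3 : f * f * f * e = e * (f * f * f) → f * f * f * s = s * (f * f * f) → f * f * f = 1 := by
    intro h3 h4
    have h5 : f * f * f * (f * f * f) * (f * f * f * (f * f * f)) = 1 :=
      cent4 hK hs he (fun p q => by simp only [Equiv.Perm.mul_apply, hfadd]) (by simp only [Equiv.Perm.mul_apply, hf1]) h3 h4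
    have h6 : orderOf (f * f * f) ∣ 4 := by
      apply orderOf_dvd_of_pow_eq_one
      rw [← h5]
      simp only [pow_succ, pow_zero, one_mul, mul_assoc]
    have h7 : orderOf (f * f * f) ∣ orderOf f := by
      have e : f * f * f = f ^ 3 := by rw [pow_succ, pow_two]
      rw [e]
      exact orderOf_pow_dvd 3
    have h8 : Odd (orderOf (f * f * f)) := hodd.of_dvd_nat h7
    have h9 : Nat.Coprime (orderOf (f * f * f)) 4 := by
      have : Nat.Coprime (orderOf (f * f * f)) (2 ^ 2) := (Nat.Coprime.pow_right 2 (Nat.coprime_two_right.2 h8))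
      exact this
    rw [← orderOf_eq_one_iff]
    exact Nat.Coprime.eq_one_of_dvd h9 h6
  rcases hfe with hfe | hfe | hfe
  · refine ⟨1, one_mem _, fun z => ⟨(f⁻¹ (z, 0)).1, ?_⟩⟩
    have h5 : e (f⁻¹ (z, 0)) = f⁻¹ (z, 0) := by
      have h6 : e * f⁻¹ = f⁻¹ * e := by
        nth_rewrite 2 [← hfe]
        group
      have h7 := DFunLike.congr_fun h6 (z, 0)
      rw [Equiv.Perm.mul_apply, Equiv.Perm.mul_apply, he (z, 0)] at h7
      simp only [add_zero] at h7
      exact h7
    rw [he] at h5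
    have h6 := congrArg Prod.fst h5
    simp only at h6
    have h7 := add_eq_left.1 h6
    have h8 : (((f⁻¹ (z, 0)).1, 0) : K × K) = f⁻¹ (z, 0) := by
      ext
      · rfl
      · exact h7.symm
    rw [h8]
    exact (Equiv.apply_symm_apply f _).symm
  · by_cases hnl : ∃ m ∈ M, ∃ (c : K) (p : K × K), ∀ c' : K, m (c • p) ≠ c' • m p
    · exact hB s hfe (Or.inl rfl) hnl
    exfalso
    push Not at hnl
    have k1 : f * e = s * f := by rw [← hfe]; group
    rcases hfs with hfs | hfs | hfs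
    · have k2 : f * s = e * f := by rw [← hfs]; group
      have k3 : f * f * e = e * (f * f) := by
        calc f * f * e = f * (f * e) := by group
          _ = (f * s) * f := by rw [k1]; group
          _ = _ := by rw [k2]; group
      have k4 := comm_of_sq hodd k3
      rw [k1] at k4
      exact hne1 (mul_right_cancel k4)
    · have k2 : f * s = s * f := by
        nth_rewrite 2 [← hfs]
        group
      exact hne1 (mul_left_cancel (k2.trans k1.symm))
    · have k2 : f * s = s * e * f := by rw [← hfs]; group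
      have k3 : f * (s * e) = e * f := by
        calc f * (s * e) = (f * s) * e := by group
          _ = s * e * (f * e) := by rw [k2]; group
          _ = s * (e * s) * f := by rw [k1]; group
          _ = (s * s) * e * f := by rw [hes]; group
          _ = _ := by rw [hss, one_mul]
      refine lemA hK hs he hMX hadd hZ hnl hSL hfX hfX' hfe ?_ (hf3 ?_ ?_)
      · rw [k3]; group
      · calc f * f * f * e = f * f * (f * e) := by group
          _ = f * (f * s) * f := by rw [k1]; group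
          _ = (f * (s * e)) * f * f := by rw [k2]; group
          _ = _ := by rw [k3]; group
      · calc f * f * f * s = f * f * (f * s) := by group
          _ = f * (f * (s * e)) * f := by rw [k2]; group
          _ = (f * e) * f * f := by rw [k3]; group
          _ = _ := by rw [k1]; group
  · by_cases hnl : ∃ m ∈ M, ∃ (c : K) (p : K × K), ∀ c' : K, m (c • p) ≠ c' • m p
    · exact hB (s * e) hfe (Or.inr rfl) hnl
    exfalso
    push Not at hnl
    have k1 : f * e = s * e * f := by rw [← hfe]; group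
    rcases hfs with hfs | hfs | hfs
    · have k2 : f * s = e * f := by rw [← hfs]; group
      have k3 : f * (s * e) = s * f := by
        calc f * (s * e) = (f * s) * e := by group
          _ = e * (f * e) := by rw [k2]; group
          _ = (e * s) * e * f := by rw [k1]; group
          _ = s * (e * e) * f := by rw [hes]; group
          _ = _ := by rw [hee, mul_one]
      have k1' : f⁻¹ * (s * e) = e * f⁻¹ := by
        have : e = f⁻¹ * (s * e * f) := by rw [← k1]; group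
        nth_rewrite 2 [this]
        group
      have k2' : f⁻¹ * e = s * f⁻¹ := by
        have : s = f⁻¹ * (e * f) := by rw [← k2]; group
        nth_rewrite 1 [this]
        group
      have hff : f⁻¹ * f⁻¹ * f⁻¹ = 1 := by
        have h5 : f * f * f = 1 := by
          refine hf3 ?_ ?_
          · calc f * f * f * e = f * f * (f * e) := by group
              _ = f * (f * (s * e)) * f := by rw [k1]; group
              _ = (f * s) * f * f := by rw [k3]; group
              _ = _ := by rw [k2]; group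
          · calc f * f * f * s = f * f * (f * s) := by group
              _ = f * (f * e) * f := by rw [k2]; group
              _ = (f * (s * e)) * f * f := by rw [k1]; group
              _ = _ := by rw [k3]; group
        calc f⁻¹ * f⁻¹ * f⁻¹ = (f * f * f)⁻¹ := by group
          _ = 1 := by rw [h5, inv_one]
      refine lemA hK hs he hMX hadd hZ hnl hSL (f := f⁻¹) ?_ ?_ ?_ ?_ hff
      · intro x hx
        rw [inv_inv]
        exact hfX' x hx
      · intro x hx
        rw [inv_inv]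
        exact hfX x hx
      · rw [k2']; group
      · rw [k1']; group
    · have k2 : f * s = s * f := by
        nth_rewrite 2 [← hfs]
        group
      have k3 : f * (s * e) = e * f := by
        calc f * (s * e) = (f * s) * e := by group
          _ = s * (f * e) := by rw [k2]; group
          _ = (s * s) * e * f := by rw [k1]; group
          _ = _ := by rw [hss, one_mul]
      have k4 : f * f * e = e * (f * f) := by
        calc f * f * e = f * (f * e) := by group
          _ = (f * (s * e)) * f := by rw [k1]; group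
          _ = _ := by rw [k3]; group
      have k5 := comm_of_sq hodd k4
      rw [k1] at k5
      exact hne2 (mul_right_cancel k5)
    · have k2 : f * s = s * e * f := by rw [← hfs]; group
      exact hne1 (mul_left_cancel (k2.trans k1.symm))

end

end Cfsg.Agent.Omega.OM.FourF

end

-- merged: Cfsg.Agent.Mrg.Omega.OM.FourF.Three
section

/-!
# THEOREM F4 (#20047), (3') : `X ≤ M`

`X` with Sylow group `T`; `W i ≅ K²` over a field of order 4, `T` acts by `(x + l y, y)` and `(x² + l y², y²)`.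
If for every `i` the group `X` normalises `W i` or `O²(X)` centralises `Z i`, then `X ≤ M`.
-/

set_option autoImplicit false
set_option linter.unusedSectionVars false

namespace Cfsg.Agent.Omega.OM.FourF

open Subgroup Cfsg Cfsg.Agent.ZN.ChoiceBase Cfsg.Agent.ZN.ChoiceSit
open Cfsg.Agent.ZN (o2)
open Cfsg.Agent.MinSimple.VModule (oddGen oddGen_le mem_oddGen oddGen_def)

/-- `g` acts on `W` as the map `x`. -/
def Act {G K : Type*} [Group G] (W : Subgroup G) (e : G → K × K) (g : G) (x : K × K → K × K) : Prop :=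
  ∀ w ∈ W, e (g * w * g⁻¹) = x (e w)

/-- Coordinates on `W`. -/
structure Co {G K : Type*} [Group G] [Field K] (W Z : Subgroup G) (u : G) (e : G → K × K) : Prop where
  mul : ∀ v ∈ W, ∀ w ∈ W, e (v * w) = e v + e w
  ker : ∀ v ∈ W, e v = 0 → v = 1
  surj : ∀ p, ∃ v ∈ W, e v = p
  memZ : ∀ v, v ∈ Z ↔ v ∈ W ∧ (e v).2 = 0
  uW : u ∈ W
  eu : e u = (1, 0)

section

variable {G K : Type*} [Group G] [Field K] {W Z : Subgroup G} {u : G} {e : G → K × K}

theorem conjW {g w : G} (hg : g ∈ normalizer (W : Set G)) (hw : w ∈ W) : g * w * g⁻¹ ∈ W :=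
  (mem_normalizer_iff.1 hg w).1 hw

namespace Co

variable (h : Co W Z u e)
include h

theorem one : e 1 = 0 := by
  have := h.mul 1 (one_mem _) 1 (one_mem _)
  rw [mul_one] at this
  exact left_eq_add.1 this

theorem inv {v : G} (hv : v ∈ W) : e v⁻¹ = - e v := by
  have := h.mul v hv v⁻¹ (inv_mem hv)
  rw [mul_inv_cancel, h.one] at this
  exact (neg_eq_of_add_eq_zero_right this.symm).symm

theorem inj {v w : G} (hv : v ∈ W) (hw : w ∈ W) (he : e v = e w) : v = w := by
  have h1 := h.mul v hv w⁻¹ (inv_mem hw)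
  rw [h.inv hw, he, add_neg_cancel] at h1
  have h2 := h.ker _ (mul_mem hv (inv_mem hw)) h1
  exact mul_inv_eq_one.1 h2

theorem ZW : Z ≤ W := fun _ hv => ((h.memZ _).1 hv).1

theorem uZ : u ∈ Z := (h.memZ u).2 ⟨h.uW, by rw [h.eu]⟩

theorem add {g : G} {x : K × K → K × K} (hg : g ∈ normalizer (W : Set G)) (hx : Act W e g x) (p q : K × K) :
    x (p + q) = x p + x q := by
  obtain ⟨v, hv, rfl⟩ := h.surj p
  obtain ⟨w, hw, rfl⟩ := h.surj q
  rw [← h.mul v hv w hw, ← hx _ (mul_mem hv hw), ← hx v hv, ← hx w hw, ← h.mul _ (conjW hg hv) _ (conjW hg hw)]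
  congr 1
  group

theorem uniq {g : G} {x y : Equiv.Perm (K × K)} (hx : Act W e g x) (hy : Act W e g y) : x = y := by
  ext p : 1
  obtain ⟨v, hv, rfl⟩ := h.surj p
  rw [← hx v hv, ← hy v hv]

theorem exists_perm {g : G} (hg : g ∈ normalizer (W : Set G)) : ∃ x : Equiv.Perm (K × K), Act W e g x := by
  choose v hv hve using h.surj
  have hv' : ∀ w ∈ W, v (e w) = w := fun w hw => h.inj (hv _) hw (hve _)
  have hgi : g⁻¹ ∈ normalizer (W : Set G) := inv_mem hg
  refine ⟨⟨fun p => e (g * v p * g⁻¹), fun p => e (g⁻¹ * v p * g⁻¹⁻¹), fun p => ?_, fun p => ?_⟩, fun w hw => ?_⟩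
  · show e (g⁻¹ * v (e (g * v p * g⁻¹)) * g⁻¹⁻¹) = p
    rw [hv' _ (conjW hg (hv p))]
    have e1 : g⁻¹ * (g * v p * g⁻¹) * g⁻¹⁻¹ = v p := by group
    rw [e1, hve]
  · show e (g * v (e (g⁻¹ * v p * g⁻¹⁻¹)) * g⁻¹) = p
    rw [hv' _ (conjW hgi (hv p))]
    have e1 : g * (g⁻¹ * v p * g⁻¹⁻¹) * g⁻¹ = v p := by group
    rw [e1, hve]
  · show e (g * w * g⁻¹) = e (g * v (e w) * g⁻¹)
    rw [hv' w hw]

omit h in
theorem act_mul {g k : G} {x y : Equiv.Perm (K × K)} (hk : k ∈ normalizer (W : Set G)) (hx : Act W e g x)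
    (hy : Act W e k y) : Act W e (g * k) (x * y : Equiv.Perm (K × K)) := by
  intro w hw
  have e1 : g * k * w * (g * k)⁻¹ = g * (k * w * k⁻¹) * g⁻¹ := by group
  rw [e1, hx _ (conjW hk hw), hy w hw, Equiv.Perm.mul_apply]

omit h in
theorem act_inv {g : G} {x : Equiv.Perm (K × K)} (hg : g ∈ normalizer (W : Set G)) (hx : Act W e g x) :
    Act W e g⁻¹ (x⁻¹ : Equiv.Perm (K × K)) := by
  intro w hw
  have h1 := hx _ (conjW (inv_mem hg) hw)
  have e1 : g * (g⁻¹ * w * g⁻¹⁻¹) * g⁻¹ = w := by group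
  rw [e1] at h1
  rw [h1]
  exact (Equiv.symm_apply_apply x _).symm

omit h in
theorem act_one : Act W e 1 (1 : Equiv.Perm (K × K)) := by
  intro w _
  rw [one_mul, inv_one, mul_one, Equiv.Perm.one_apply]

omit h in
theorem act_pow {g : G} {x : Equiv.Perm (K × K)} (hg : g ∈ normalizer (W : Set G)) (hx : Act W e g x) (n : ℕ) :
    Act W e (g ^ n) (x ^ n : Equiv.Perm (K × K)) := by
  induction n with
  | zero => rw [pow_zero, pow_zero]; exact act_one
  | succ n ih => rw [pow_succ, pow_succ]; exact act_mul hg ih hx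

/-- an element of odd order acts as a permutation of odd order. -/
theorem odd {g : G} {x : Equiv.Perm (K × K)} (hg : g ∈ normalizer (W : Set G)) (hx : Act W e g x)
    (ho : Odd (orderOf g)) : Odd (orderOf x) := by
  refine ho.of_dvd_nat ?_
  apply orderOf_dvd_of_pow_eq_one
  have h1 := act_pow hg hx (orderOf g)
  rw [pow_orderOf_eq_one] at h1
  exact h.uniq h1 act_one

theorem mem_cj_Z {g w : G} (hg : g ∈ normalizer (W : Set G)) {x : Equiv.Perm (K × K)} (hx : Act W e g x)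
    (hZ : ∀ z : K, (x (z, 0)).2 = 0) (hw : w ∈ Z) : g * w * g⁻¹ ∈ Z := by
  obtain ⟨h1, h2⟩ := (h.memZ w).1 hw
  refine (h.memZ _).2 ⟨conjW hg h1, ?_⟩
  rw [hx w h1]
  have : e w = ((e w).1, 0) := by rw [← h2]
  rw [this]
  exact hZ _

/-- an element of odd order which normalises `Z` and centralises `u` centralises `Z`. -/
theorem cent_of_nor [CharP K 2] (hK : Nat.card K = 4) {f : G} (hf : f ∈ normalizer (Z : Set G)) (hu : f * u = u * f)
    (ho : Odd (orderOf f)) : ∀ z ∈ Z, f * z = z * f := by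
  intro z hz
  apply comm_of_sq ho
  have hv : ∀ a : K, ∃ v ∈ Z, e v = (a, 0) := by
    intro a
    obtain ⟨v, hv, he⟩ := h.surj (a, 0)
    exact ⟨v, (h.memZ v).2 ⟨hv, by rw [he]⟩, he⟩
  choose v hvZ hve using hv
  have hvW : ∀ a, v a ∈ W := fun a => h.ZW (hvZ a)
  have hfv : ∀ a, f * v a * f⁻¹ ∈ Z := fun a => conjW hf (hvZ a)
  have hφ : ∀ a, f * v a * f⁻¹ = v (e (f * v a * f⁻¹)).1 := by
    intro a
    refine h.inj (h.ZW (hfv a)) (hvW _) ?_
    rw [hve]
    ext
    · rfl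
    · exact ((h.memZ _).1 (hfv a)).2
  have hadd : ∀ a b, v (a + b) = v a * v b := by
    intro a b
    refine h.inj (hvW _) (mul_mem (hvW _) (hvW _)) ?_
    rw [h.mul _ (hvW _) _ (hvW _), hve, hve, hve]
    simp
  have hv1 : v 1 = u := h.inj (hvW _) h.uW (by rw [hve, h.eu])
  have key := phi_invol hK (fun a => (e (f * v a * f⁻¹)).1) (fun a b => ?_) (fun a b hab => ?_) ?_ (e z).1
  · have hz1 : z = v (e z).1 := by
      refine h.inj (h.ZW hz) (hvW _) ?_
      rw [hve]
      ext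
      · rfl
      · exact ((h.memZ _).1 hz).2
    have h1 : f * (f * z * f⁻¹) * f⁻¹ = z := by
      rw [hz1, hφ (e z).1, hφ (e (f * v (e z).1 * f⁻¹)).1, key]
    calc f * f * z = f * (f * z * f⁻¹) * f⁻¹ * (f * f) := by group
      _ = z * (f * f) := by rw [h1]
  · have e1 : f * v (a + b) * f⁻¹ = (f * v a * f⁻¹) * (f * v b * f⁻¹) := by rw [hadd]; group
    rw [e1, h.mul _ (h.ZW (hfv a)) _ (h.ZW (hfv b))]
    rfl
  · have h1 : f * v a * f⁻¹ = f * v b * f⁻¹ := by rw [hφ a, hφ b, hab]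
    have h2 : v a = v b := mul_left_cancel (mul_right_cancel h1)
    have h3 := congrArg e h2
    rw [hve, hve] at h3
    exact congrArg Prod.fst h3
  · have e1 : f * v 1 * f⁻¹ = u := by rw [hv1, hu]; group
    rw [e1, h.eu]

end Co

end

/-- The situation of (3'). -/
structure Thr {G K ι : Type*} [Group G] [Field K] (X T M : Subgroup G) (W Z : ι → Subgroup G) (u : ι → G)
    (e : ι → G → K × K) : Prop where
  card : Nat.card K = 4
  syl : Syl T X
  TM : T ≤ M
  co : ∀ i, Co (W i) (Z i) (u i) (e i)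
  TN : ∀ i, T ≤ normalizer (W i : Set G)
  act : ∀ i, ∀ t ∈ T, ∃ l : K, Act (W i) (e i) t (fun p => (p.1 + l * p.2, p.2)) ∨
    Act (W i) (e i) t (fun p => (p.1 * p.1 + l * (p.2 * p.2), p.2 * p.2))
  full : ∀ i (l : K), ∃ t ∈ T, Act (W i) (e i) t (fun p => (p.1 + l * p.2, p.2))
  sl : ∀ i (a b c d : K), a * d - b * c = 1 → ∃ g ∈ M, g ∈ normalizer (W i : Set G) ∧
    Act (W i) (e i) g (fun p => (a * p.1 + b * p.2, c * p.1 + d * p.2)) ∧ ∀ j, j ≠ i → ∀ w ∈ W j, g * w = w * g
  NM : ∀ g, (∀ i, cj g (Z i) = Z i) → g ∈ M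
  Xu : ∀ i, ∀ x ∈ X, x * u i = u i * x
  fix : ∀ i, (∀ o ∈ o2 X, ∀ z ∈ Z i, o * z = z * o) → ∀ x ∈ X, ∀ z ∈ Z i, x * z = z * x

namespace Thr

variable {G K ι : Type*} [Group G] [Field K] [CharP K 2] {X T M : Subgroup G} {W Z : ι → Subgroup G} {u : ι → G}
  {e : ι → G → K × K} (h : Thr X T M W Z u e)
include h

theorem OT [Finite G] : o2 X ≤ T := o2_le_syl h.syl

theorem TX : T ≤ X := h.syl.1

/-- elements of `T` act on `Z / u` trivially. -/
theorem mod_u {i : ι} {t w : G} (ht : t ∈ T) (hw : w ∈ Z i) : t * w * t⁻¹ = w ∨ t * w * t⁻¹ = w * u i := by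
  have hc := h.co i
  obtain ⟨hwW, hw2⟩ := (hc.memZ w).1 hw
  have htW := conjW (h.TN i ht) hwW
  obtain ⟨l, hl | hl⟩ := h.act i t ht
  · left
    refine hc.inj htW hwW ?_
    rw [hl w hwW]
    ext
    · simp [hw2]
    · simp
  · have h1 := hl w hwW
    simp only [hw2, mul_zero, add_zero] at h1
    by_cases h0 : (e i w).1 = 0 ∨ (e i w).1 = 1
    · left
      refine hc.inj htW hwW ?_
      rw [h1]
      ext
      · rcases h0 with h0 | h0 <;> rw [h0] <;> simp
      · exact hw2.symm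
    · right
      push Not at h0
      have hr := root h.card h0.1 h0.2
      refine hc.inj htW (mul_mem hwW hc.uW) ?_
      rw [h1, hc.mul w hwW _ hc.uW, hc.eu, hr]
      ext
      · simp
      · simp [hw2]

/-- the uniserial case. -/
theorem nor_of_uni [Finite G] {i : ι} (hW : X ≤ normalizer (W i : Set G)) {t : G} (ht : t ∈ o2 X) {l : K} (hl0 : l ≠ 0)
    (hl1 : l ≠ 1) (hl : Act (W i) (e i) t (fun p => (p.1 * p.1 + l * (p.2 * p.2), p.2 * p.2))) :
    X ≤ normalizer (Z i : Set G) := by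
  have hc := h.co i
  have h2 := two0 (K := K)
  intro x hx
  refine mem_normalizer_of_cj_le fun v hv => ?_
  rw [mem_cj] at hv
  set w := x⁻¹ * v * x with hw
  have hwW := hc.ZW hv
  have hv' : v = x * w * x⁻¹ := by rw [hw]; group
  have hvW : v ∈ W i := by
    rw [hv']
    exact conjW (hW hx) hwW
  have ho : x⁻¹ * t * x ∈ T := by
    refine h.OT ?_
    have := conjW (le_normalizer_o2 X (inv_mem hx)) ht
    rwa [inv_inv] at this
  have h1 : t * v * t⁻¹ = v ∨ t * v * t⁻¹ = v * u i := by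
    have e1 : t * v * t⁻¹ = x * (x⁻¹ * t * x * w * (x⁻¹ * t * x)⁻¹) * x⁻¹ := by rw [hv']; group
    rcases h.mod_u ho hv with h3 | h3
    · left
      rw [e1, h3, ← hv']
    · right
      rw [e1, h3, hv']
      have e2 : x * (w * u i) * x⁻¹ = x * w * x⁻¹ * (x * u i * x⁻¹) := by group
      have e3 : x * u i * x⁻¹ = u i := by rw [h.Xu i x hx]; group
      rw [e2, e3]
  have h3 := hl v hvW
  refine (hc.memZ v).2 ⟨hvW, ?_⟩
  set a := (e i v).1 with ha
  set b := (e i v).2 with hb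
  have hab : e i v = (a, b) := rfl
  -- `b² = b`, `a² + l b² = a` or `a + 1`
  have h4 : b * b = b ∧ (a * a + l * (b * b) = a ∨ a * a + l * (b * b) = a + 1) := by
    rcases h1 with h1 | h1
    · rw [h1, hab] at h3
      exact ⟨(congrArg Prod.snd h3).symm, Or.inl (congrArg Prod.fst h3).symm⟩
    · rw [h1, hc.mul v hvW _ hc.uW, hab, hc.eu] at h3
      have h5 := congrArg Prod.fst h3
      have h6 := congrArg Prod.snd h3
      simp only [Prod.mk_add_mk, add_zero] at h5 h6
      exact ⟨h6.symm, Or.inr h5.symm⟩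
  obtain ⟨hbb, h5⟩ := h4
  by_contra hb0
  have hb1 : b = 1 := mul_left_cancel₀ hb0 (by rw [hbb, mul_one])
  rw [hb1, mul_one, mul_one] at h5
  have h6 : a * a + a = 0 ∨ a * a + a = 1 := by
    by_cases h7 : a = 0
    · left; rw [h7]; simp
    by_cases h8 : a = 1
    · left; rw [h8]; linear_combination h2
    right
    rw [root h.card h7 h8]
    linear_combination a * h2
  rcases h5 with h5 | h5 <;> rcases h6 with h6 | h6
  · exact hl0 (by linear_combination h5 + h6 - a * a * h2)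
  · exact hl1 (by linear_combination h5 + h6 - a * a * h2)
  · exact hl1 (by linear_combination h5 + h6 - a * a * h2)
  · exact hl0 (by linear_combination h5 + h6 - (a * a - 1) * h2)

/-- the image of `O₂(X)` on `W i` is the four-group `⟨e, s⟩`. -/
theorem four [Finite G] {i : ι} (hW : X ≤ normalizer (W i : Set G))
    (hne : ¬ ∀ x ∈ oddGen X, ∀ z ∈ Z i, x * z = z * x) :
    (∃ c ∈ o2 X, Act (W i) (e i) c (fun p => (p.1 + p.2, p.2))) ∧
    (∃ t ∈ o2 X, Act (W i) (e i) t (fun p => (p.1 * p.1, p.2 * p.2))) ∧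
    ∀ o ∈ o2 X, ∃ l : K, (l = 0 ∨ l = 1) ∧ (Act (W i) (e i) o (fun p => (p.1 + l * p.2, p.2)) ∨
      Act (W i) (e i) o (fun p => (p.1 * p.1 + l * (p.2 * p.2), p.2 * p.2))) := by
  have hc := h.co i
  have h2 := two0 (K := K)
  have hXZ : ¬ X ≤ normalizer (Z i : Set G) := by
    intro hX
    apply hne
    intro x hx
    have h1 : oddGen X ≤ centralizer (Z i : Set G) := by
      rw [oddGen_def, closure_le]
      rintro f ⟨hf, ho⟩
      refine mem_centralizer_iff.2 fun z hz => ?_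
      exact (hc.cent_of_nor h.card (hX hf) (h.Xu i f hf) ho z hz).symm
    exact fun z hz => (mem_centralizer_iff.1 (h1 hx) z hz).symm
  -- the semilinear elements of `O₂(X)`
  have hl01 : ∀ t ∈ o2 X, ∀ l : K, Act (W i) (e i) t (fun p => (p.1 * p.1 + l * (p.2 * p.2), p.2 * p.2)) →
      l = 0 ∨ l = 1 := by
    intro t ht l hl
    by_contra hcon
    push Not at hcon
    exact hXZ (h.nor_of_uni hW ht hcon.1 hcon.2 hl)
  -- there is one
  obtain ⟨t₀, ht₀, l₀, hl₀⟩ : ∃ t ∈ o2 X, ∃ l : K,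
      Act (W i) (e i) t (fun p => (p.1 * p.1 + l * (p.2 * p.2), p.2 * p.2)) := by
    by_contra hcon
    push Not at hcon
    apply hne
    have h1 := h.fix i fun o ho z hz => ?_
    · exact fun x hx => h1 x (oddGen_le X hx)
    obtain ⟨hzW, hz2⟩ := (hc.memZ z).1 hz
    obtain ⟨l, hl | hl⟩ := h.act i o (h.OT ho)
    · have h3 : o * z * o⁻¹ = z := by
        refine hc.inj (conjW (hW (o2_le X ho)) hzW) hzW ?_
        rw [hl z hzW]
        ext
        · simp [hz2]
        · simp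
      exact mul_inv_eq_iff_eq_mul.1 h3
    · exact absurd hl (hcon o ho l)
  have hl₀01 := hl01 t₀ ht₀ l₀ hl₀
  -- the linear ones
  have hlin : ∀ t ∈ o2 X, ∀ l : K, Act (W i) (e i) t (fun p => (p.1 + l * p.2, p.2)) → l = 0 ∨ l = 1 := by
    intro t ht l hl
    have h3 : Act (W i) (e i) (t₀ * t) (fun p => (p.1 * p.1 + (l * l + l₀) * (p.2 * p.2), p.2 * p.2)) := by
      intro w hw
      have e1 : t₀ * t * w * (t₀ * t)⁻¹ = t₀ * (t * w * t⁻¹) * t₀⁻¹ := by group
      rw [e1, hl₀ _ (conjW (hW (o2_le X ht)) hw), hl w hw]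
      ext
      · simp only; linear_combination (l * (e i w).1 * (e i w).2) * h2
      · simp only
    have h4 := hl01 _ (mul_mem ht₀ ht) _ h3
    by_contra hcon
    push Not at hcon
    have hr := root h.card hcon.1 hcon.2
    rcases hl₀01 with h5 | h5 <;> rcases h4 with h6 | h6
    · exact hcon.2 (by linear_combination h6 - hr - h5 - h2)
    · exact hcon.1 (by linear_combination h6 - hr - h5)
    · exact hcon.1 (by linear_combination h6 - hr - h5 - h2)
    · exact hcon.2 (by linear_combination h6 - hr - h5 - h2)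
  obtain ⟨om, ho0, ho1⟩ := exists_om h.card
  have hr := root h.card ho0 ho1
  obtain ⟨b, hbT, hb⟩ := h.full i om
  have hbN := h.TN i hbT
  have ht₀N := hW (o2_le X ht₀)
  obtain ⟨xb, hxb⟩ := hc.exists_perm hbN
  obtain ⟨xt, hxt⟩ := hc.exists_perm ht₀N
  have hxb' : ∀ p : K × K, xb p = (p.1 + om * p.2, p.2) := by
    intro p
    obtain ⟨w, hw, rfl⟩ := hc.surj p
    rw [← hxb w hw, hb w hw]
  have hxt' : ∀ p : K × K, xt p = (p.1 * p.1 + l₀ * (p.2 * p.2), p.2 * p.2) := by
    intro p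
    obtain ⟨w, hw, rfl⟩ := hc.surj p
    rw [← hxt w hw, hl₀ w hw]
  have hcm : b * t₀ * b⁻¹ * t₀⁻¹ ∈ o2 X :=
    mul_mem (conjW (le_normalizer_o2 X (h.TX hbT)) ht₀) (inv_mem ht₀)
  have hcA : Act (W i) (e i) (b * t₀ * b⁻¹ * t₀⁻¹) (fun p => (p.1 + p.2, p.2)) := by
    have h3 := Co.act_mul (inv_mem ht₀N) (Co.act_mul (inv_mem hbN) (Co.act_mul ht₀N hxb hxt) (Co.act_inv hbN hxb))
      (Co.act_inv ht₀N hxt)
    intro w hw
    rw [h3 w hw]
    -- `xb xt xb⁻¹ xt⁻¹ p = p + (p.2, 0)`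
    have h4 : ∀ p : K × K, xb (xt p) = ((xt (xb p)).1 + (xt (xb p)).2, (xt (xb p)).2) := by
      intro p
      rw [hxb', hxt', hxb', hxt']
      ext
      · simp only
        linear_combination (-(p.2 * p.2)) * hr - (om * p.1 * p.2 + p.2 * p.2) * h2
      · simp only
    have h5 := h4 (xb⁻¹ (xt⁻¹ (e i w)))
    have h6 : xb (xb⁻¹ (xt⁻¹ (e i w))) = xt⁻¹ (e i w) := Equiv.apply_symm_apply xb _
    have h7 : xt (xt⁻¹ (e i w)) = e i w := Equiv.apply_symm_apply xt _
    rw [h6, h7] at h5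
    exact h5
  refine ⟨⟨_, hcm, hcA⟩, ?_, fun o ho => ?_⟩
  · rcases hl₀01 with h5 | h5
    · refine ⟨t₀, ht₀, ?_⟩
      intro w hw
      rw [hl₀ w hw, h5]
      simp
    · refine ⟨b * t₀ * b⁻¹ * t₀⁻¹ * t₀, mul_mem hcm ht₀, ?_⟩
      intro w hw
      have e1 : b * t₀ * b⁻¹ * t₀⁻¹ * t₀ * w * (b * t₀ * b⁻¹ * t₀⁻¹ * t₀)⁻¹ =
        b * t₀ * b⁻¹ * t₀⁻¹ * (t₀ * w * t₀⁻¹) * (b * t₀ * b⁻¹ * t₀⁻¹)⁻¹ := by group
      rw [e1, hcA _ (conjW ht₀N hw), hl₀ w hw, h5]
      ext
      · simp only; linear_combination ((e i w).2 * (e i w).2) * h2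
      · simp only
  · obtain ⟨l, hl | hl⟩ := h.act i o (h.OT ho)
    · exact ⟨l, hlin o ho l hl, Or.inl hl⟩
    · exact ⟨l, hl01 o ho l hl, Or.inr hl⟩

end Thr

/-- the group `N_i`. -/
structure NN {G ι : Type*} [Group G] (W Z : ι → Subgroup G) (Ps : Set ι) (i : ι) (g : G) : Prop where
  nor : ∀ j ∈ Ps, g ∈ normalizer (W j : Set G)
  cen : ∀ j ∈ Ps, j ≠ i → ∀ w ∈ W j, g * w = w * g
  out : ∀ j, j ∉ Ps → ∀ z ∈ Z j, g * z = z * g

theorem comm_inv {G : Type*} [Group G] {g w : G} (h : g * w = w * g) : g⁻¹ * w = w * g⁻¹ := by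
  rw [inv_mul_eq_iff_eq_mul, ← mul_assoc, h, mul_inv_cancel_right]

theorem comm_mul {G : Type*} [Group G] {g k w : G} (h : g * w = w * g) (h' : k * w = w * k) :
    g * k * w = w * (g * k) := by
  rw [mul_assoc, h', ← mul_assoc, h, mul_assoc]

namespace NN

variable {G ι : Type*} [Group G] {W Z : ι → Subgroup G} {Ps : Set ι} {i : ι}

theorem one : NN W Z Ps i 1 := ⟨fun _ _ => one_mem _, fun _ _ _ _ _ => by simp, fun _ _ _ _ => by simp⟩

theorem mul {g k : G} (h : NN W Z Ps i g) (h' : NN W Z Ps i k) : NN W Z Ps i (g * k) :=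
  ⟨fun j hj => mul_mem (h.nor j hj) (h'.nor j hj), fun j hj hji w hw => comm_mul (h.cen j hj hji w hw) (h'.cen j hj hji w hw),
    fun j hj z hz => comm_mul (h.out j hj z hz) (h'.out j hj z hz)⟩

theorem inv {g : G} (h : NN W Z Ps i g) : NN W Z Ps i g⁻¹ :=
  ⟨fun j hj => inv_mem (h.nor j hj), fun j hj hji w hw => comm_inv (h.cen j hj hji w hw),
    fun j hj z hz => comm_inv (h.out j hj z hz)⟩

/-- conjugation by an element which normalises all `W j` (`j ∈ Ps`) and all `Z j` (`j ∉ Ps`). -/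
theorem conj {g f : G} (h : NN W Z Ps i g) (hf : ∀ j ∈ Ps, f ∈ normalizer (W j : Set G))
    (hf' : ∀ j, j ∉ Ps → f ∈ normalizer (Z j : Set G)) : NN W Z Ps i (f * g * f⁻¹) := by
  have key : ∀ w : G, g * (f⁻¹ * w * f) = (f⁻¹ * w * f) * g → f * g * f⁻¹ * w = w * (f * g * f⁻¹) := by
    intro w hw
    calc f * g * f⁻¹ * w = f * (g * (f⁻¹ * w * f)) * f⁻¹ := by group
      _ = _ := by rw [hw]; group
  refine ⟨fun j hj => mul_mem (mul_mem (hf j hj) (h.nor j hj)) (inv_mem (hf j hj)), fun j hj hji w hw => key w ?_,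
    fun j hj z hz => key z ?_⟩
  · refine h.cen j hj hji _ ?_
    have := conjW (inv_mem (hf j hj)) hw
    rwa [inv_inv] at this
  · refine h.out j hj _ ?_
    have := conjW (inv_mem (hf' j hj)) hz
    rwa [inv_inv] at this

end NN

namespace Thr

variable {G K ι : Type*} [Group G] [Field K] [CharP K 2] {X T M : Subgroup G} {W Z : ι → Subgroup G} {u : ι → G}
  {e : ι → G → K × K} (h : Thr X T M W Z u e)
include h

/-- `T` normalises `Z i`. -/
theorem TZ [Finite G] (i : ι) : T ≤ normalizer (Z i : Set G) := by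
  intro t ht
  refine mem_normalizer_of_cj_le fun v hv => ?_
  rw [mem_cj] at hv
  have h1 := h.mod_u ht hv
  have e1 : t * (t⁻¹ * v * t) * t⁻¹ = v := by group
  rw [e1] at h1
  rcases h1 with h1 | h1
  · rw [h1]; exact hv
  · rw [h1]; exact mul_mem hv (h.co i).uZ

theorem exists_m [Finite G] {Ps : Set ι} (hP : ∀ i ∈ Ps, X ≤ normalizer (W i : Set G) ∧
    ¬ ∀ x ∈ oddGen X, ∀ z ∈ Z i, x * z = z * x) (hP' : ∀ i, i ∉ Ps → ∀ x ∈ oddGen X, ∀ z ∈ Z i, x * z = z * x)
    {f : G} (hf : f ∈ X) (ho : Odd (orderOf f)) {i : ι} (hi : i ∈ Ps) :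
    ∃ g ∈ M, NN W Z Ps i g ∧ cj g (Z i) = cj f (Z i) := by
  have hc := h.co i
  have hNi : ∀ g, NN W Z Ps i g → g ∈ normalizer (W i : Set G) := fun g hg => hg.nor i hi
  obtain ⟨⟨c, hcO, hcA⟩, ⟨t, htO, htA⟩, hall⟩ := h.four (hP i hi).1 (hP i hi).2
  have hcN := (hP i hi).1 (o2_le X hcO)
  have htN := (hP i hi).1 (o2_le X htO)
  have hfN : ∀ j ∈ Ps, f ∈ normalizer (W j : Set G) := fun j hj => (hP j hj).1 hf
  have hfZ : ∀ j, j ∉ Ps → f ∈ normalizer (Z j : Set G) := fun j hj => by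
    refine mem_normalizer_of_cj_le fun v hv => ?_
    rw [mem_cj] at hv
    have h1 := hP' j hj f (mem_oddGen hf ho) _ hv
    have e1 : f * (f⁻¹ * v * f) = v * f := by group
    rw [e1] at h1
    rw [mul_right_cancel h1]
    exact hv
  let XX : Subgroup (Equiv.Perm (K × K)) :=
    { carrier := {x | ∃ g, NN W Z Ps i g ∧ Act (W i) (e i) g x}
      one_mem' := ⟨1, NN.one, Co.act_one⟩
      mul_mem' := by
        rintro x y ⟨g, hg, hx⟩ ⟨k, hk, hy⟩
        exact ⟨g * k, hg.mul hk, Co.act_mul (hNi k hk) hx hy⟩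
      inv_mem' := by
        rintro x ⟨g, hg, hx⟩
        exact ⟨g⁻¹, hg.inv, Co.act_inv (hNi g hg) hx⟩ }
  let MM : Subgroup (Equiv.Perm (K × K)) :=
    { carrier := {x | ∃ g ∈ M, NN W Z Ps i g ∧ Act (W i) (e i) g x}
      one_mem' := ⟨1, one_mem _, NN.one, Co.act_one⟩
      mul_mem' := by
        rintro x y ⟨g, hgM, hg, hx⟩ ⟨k, hkM, hk, hy⟩
        exact ⟨g * k, mul_mem hgM hkM, hg.mul hk, Co.act_mul (hNi k hk) hx hy⟩
      inv_mem' := by
        rintro x ⟨g, hgM, hg, hx⟩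
        exact ⟨g⁻¹, inv_mem hgM, hg.inv, Co.act_inv (hNi g hg) hx⟩ }
  obtain ⟨pe, hpe⟩ := hc.exists_perm hcN
  obtain ⟨ps, hps⟩ := hc.exists_perm htN
  obtain ⟨pf, hpf⟩ := hc.exists_perm (hfN i hi)
  have hpe' : ∀ p : K × K, pe p = (p.1 + p.2, p.2) := by
    intro p
    obtain ⟨w, hw, rfl⟩ := hc.surj p
    rw [← hpe w hw, hcA w hw]
  have hps' : ∀ p : K × K, ps p = (p.1 * p.1, p.2 * p.2) := by
    intro p
    obtain ⟨w, hw, rfl⟩ := hc.surj p
    rw [← hps w hw, htA w hw]
  have h2 := two0 (K := K)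
  have hpse : ∀ p : K × K, (ps * pe) p = (p.1 * p.1 + p.2 * p.2, p.2 * p.2) := by
    intro p
    rw [Equiv.Perm.mul_apply, hpe', hps']
    ext
    · simp only; linear_combination (p.1 * p.2) * h2
    · simp only
  -- conjugates of elements of `O₂(X)`
  have hconj : ∀ o ∈ o2 X, ∀ x : Equiv.Perm (K × K), Act (W i) (e i) o x → x ≠ 1 →
      pf * x * pf⁻¹ = pe ∨ pf * x * pf⁻¹ = ps ∨ pf * x * pf⁻¹ = ps * pe := by
    intro o ho x hx hx1
    have h3 : f * o * f⁻¹ ∈ o2 X := conjW (le_normalizer_o2 X hf) ho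
    have hoN := (hP i hi).1 (o2_le X ho)
    have h4 : Act (W i) (e i) (f * o * f⁻¹) (pf * x * pf⁻¹ : Equiv.Perm (K × K)) :=
      Co.act_mul (inv_mem (hfN i hi)) (Co.act_mul hoN hpf hx) (Co.act_inv (hfN i hi) hpf)
    have h5 : ∀ (y : Equiv.Perm (K × K)) (y' : K × K → K × K), (∀ p, y p = y' p) → Act (W i) (e i) (f * o * f⁻¹) y' →
        pf * x * pf⁻¹ = y := by
      intro y y' hyy hy'
      refine hc.uniq h4 fun w hw => ?_
      rw [hy' w hw, hyy]
    obtain ⟨l, hl01, hl | hl⟩ := hall _ h3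
    · rcases hl01 with h6 | h6
      · exfalso
        apply hx1
        have h7 := h5 1 _ (fun p => by rw [h6]; simp) hl
        have h8 : x = pf⁻¹ * (pf * x * pf⁻¹) * pf := by group
        rw [h8, h7]; group
      · exact Or.inl (h5 pe _ (fun p => by rw [hpe', h6, one_mul]) hl)
    · rcases hl01 with h6 | h6
      · exact Or.inr (Or.inl (h5 ps _ (fun p => by rw [hps', h6, zero_mul, add_zero]) hl))
      · exact Or.inr (Or.inr (h5 (ps * pe) _ (fun p => by rw [hpse, h6, one_mul]) hl))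
  have hpe1 : pe ≠ 1 := by
    intro h3
    have h4 := hpe' (0, 1)
    rw [h3, Equiv.Perm.one_apply] at h4
    have h5 := congrArg Prod.fst h4
    simp at h5
  have hps1 : ps ≠ 1 := by
    obtain ⟨om, ho0, ho1⟩ := exists_om h.card
    intro h3
    have h4 := hps' (om, 0)
    rw [h3, Equiv.Perm.one_apply] at h4
    have h5 := congrArg Prod.fst h4
    simp only at h5
    rw [root h.card ho0 ho1] at h5
    exact one_ne_zero (left_eq_add.1 h5)
  have hpf1 : pf (1, 0) = (1, 0) := by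
    rw [← hc.eu, ← hpf _ hc.uW]
    congr 1
    rw [h.Xu i f hf]
    group
  have k1 : ∀ x ∈ XX, (∀ z : K, (x (z, 0)).2 = 0) → x ∈ MM := by
    rintro x ⟨g, hg, hx⟩ hxZ
    refine ⟨g, h.NM g fun j => ?_, hg, hx⟩
    by_cases hj : j ∈ Ps
    · by_cases hji : j = i
      · subst hji
        refine eq_of_le_of_card_ge (fun v hv => ?_) (by rw [card_cj])
        rw [mem_cj] at hv
        have h3 := hc.mem_cj_Z (hNi g hg) hx hxZ hv
        have e1 : g * (g⁻¹ * v * g) * g⁻¹ = v := by group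
        rwa [e1] at h3
      · refine cj_eq_of_mem_normalizer (centralizer_le_normalizer _ ?_)
        exact mem_centralizer_iff.2 fun z hz => (hg.cen j hj hji z ((h.co j).ZW hz)).symm
    · refine cj_eq_of_mem_normalizer (centralizer_le_normalizer _ ?_)
      exact mem_centralizer_iff.2 fun z hz => (hg.out j hj z hz).symm
  have k2 : ∀ a b c d : K, a * d - b * c = 1 → ∃ m ∈ MM, ∀ p : K × K, m p = (a * p.1 + b * p.2, c * p.1 + d * p.2) := by
    intro a b c d habcd
    obtain ⟨g, hgM, hgN, hgA, hgc⟩ := h.sl i a b c d habcd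
    obtain ⟨x, hx⟩ := hc.exists_perm hgN
    refine ⟨x, ⟨g, hgM, ⟨fun j hj => ?_, fun j _ hji w hw => hgc j hji w hw, fun j hj z hz => ?_⟩, hx⟩, fun p => ?_⟩
    · by_cases hji : j = i
      · rw [hji]; exact hgN
      · exact centralizer_le_normalizer _ (mem_centralizer_iff.2 fun w hw => (hgc j hji w hw).symm)
    · exact hgc j (fun e => hj (e ▸ hi)) z ((h.co j).ZW hz)
    · obtain ⟨w, hw, rfl⟩ := hc.surj p
      rw [← hx w hw, hgA w hw]
  have k3 : ∀ x ∈ MM, ps * x * ps⁻¹ ∈ MM := by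
    rintro x ⟨g, hgM, hg, hx⟩
    exact ⟨t * g * t⁻¹, mul_mem (mul_mem (h.TM (h.OT htO)) hgM) (inv_mem (h.TM (h.OT htO))),
      hg.conj (fun j _ => h.TN j (h.OT htO)) (fun j _ => h.TZ j (h.OT htO)),
      Co.act_mul (inv_mem htN) (Co.act_mul (hNi g hg) hps hx) (Co.act_inv htN hps)⟩
  have k4 : ∀ x ∈ XX, pf * x * pf⁻¹ ∈ XX := by
    rintro x ⟨g, hg, hx⟩
    exact ⟨f * g * f⁻¹, hg.conj hfN hfZ,
      Co.act_mul (inv_mem (hfN i hi)) (Co.act_mul (hNi g hg) hpf hx) (Co.act_inv (hfN i hi) hpf)⟩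
  have k5 : ∀ x ∈ XX, pf⁻¹ * x * pf ∈ XX := by
    rintro x ⟨g, hg, hx⟩
    refine ⟨f⁻¹ * g * f, ?_, Co.act_mul (hfN i hi) (Co.act_mul (hNi g hg) (Co.act_inv (hfN i hi) hpf) hx) hpf⟩
    have h3 := hg.conj (f := f⁻¹) (fun j hj => inv_mem (hfN j hj)) (fun j hj => inv_mem (hfZ j hj))
    rwa [inv_inv] at h3
  have k6 : MM ≤ XX := by
    rintro x ⟨g, hgM, hg, hx⟩
    exact ⟨g, hg, hx⟩
  have k7 : ∀ x ∈ XX, ∀ p q : K × K, x (p + q) = x p + x q := by
    rintro x ⟨g, hg, hx⟩
    exact hc.add (hNi g hg) hx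
  obtain ⟨m, ⟨g, hgM, hg, hgm⟩, hm⟩ := lemAB h.card hps' hpe' k6 k7 k1 k2 k3 (hc.add (hfN i hi) hpf) k4 k5
    (hc.odd (hfN i hi) hpf ho) hpf1 (hconj c hcO pe hpe hpe1) (hconj t htO ps hps hps1)
  refine ⟨g, hgM, hg, eq_of_le_of_card_ge ?_ (by rw [card_cj, card_cj])⟩
  intro v hv
  rw [mem_cj] at hv
  obtain ⟨hvW, hv2⟩ := (hc.memZ _).1 hv
  obtain ⟨z', hz'⟩ := hm (e i (g⁻¹ * v * g)).1
  obtain ⟨w, hw, hwe⟩ := hc.surj (z', 0)
  have h3 : v = f * w * f⁻¹ := by
    have e1 : v = g * (g⁻¹ * v * g) * g⁻¹ := by group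
    rw [e1]
    refine hc.inj (conjW (hNi g hg) hvW) (conjW (hfN i hi) hw) ?_
    rw [hgm _ hvW, hpf w hw, hwe, ← hz']
    congr 1
    ext
    · rfl
    · exact hv2
  rw [h3, mem_cj]
  have e1 : f⁻¹ * (f * w * f⁻¹) * f = w := by group
  rw [e1]
  exact (hc.memZ w).2 ⟨hw, by rw [hwe]⟩

/-- **(3')** -/
theorem le [Finite G] [Finite ι] (hor : ∀ i, X ≤ normalizer (W i : Set G) ∨ ∀ x ∈ oddGen X, ∀ z ∈ Z i, x * z = z * x) :
    X ≤ M := by
  classical
  let Ps : Set ι := {i | ¬ ∀ x ∈ oddGen X, ∀ z ∈ Z i, x * z = z * x}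
  have hP' : ∀ i, i ∉ Ps → ∀ x ∈ oddGen X, ∀ z ∈ Z i, x * z = z * x := fun i hi => not_not.1 hi
  have hP : ∀ i ∈ Ps, X ≤ normalizer (W i : Set G) ∧ ¬ ∀ x ∈ oddGen X, ∀ z ∈ Z i, x * z = z * x :=
    fun i hi => ⟨(hor i).resolve_right hi, hi⟩
  rw [← Dich.oddGen_sup_syl h.syl]
  refine sup_le ?_ h.TM
  rw [oddGen_def, closure_le]
  rintro f ⟨hf, ho⟩
  -- the product
  have key : ∀ s : Finset ι, (∀ i ∈ s, i ∈ Ps) → ∃ g ∈ M, (∀ j ∈ Ps, g ∈ normalizer (W j : Set G)) ∧
      (∀ j ∈ Ps, j ∉ s → ∀ w ∈ W j, g * w = w * g) ∧ (∀ j, j ∉ Ps → ∀ z ∈ Z j, g * z = z * g) ∧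
      ∀ j ∈ s, cj g (Z j) = cj f (Z j) := by
    intro s
    induction s using Finset.induction_on with
    | empty =>
      intro _
      exact ⟨1, one_mem _, fun _ _ => one_mem _, fun _ _ _ _ _ => by simp, fun _ _ _ _ => by simp, fun _ hj => by simp at hj⟩
    | insert i s his ih =>
      intro hs
      obtain ⟨g, hgM, g1, g2, g3, g4⟩ := ih fun j hj => hs j (Finset.mem_insert_of_mem hj)
      have hi := hs i (Finset.mem_insert_self i s)
      obtain ⟨m, hmM, hm, hm'⟩ := h.exists_m hP hP' hf ho hi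
      refine ⟨g * m, mul_mem hgM hmM, fun j hj => mul_mem (g1 j hj) (hm.nor j hj), fun j hj hjs w hw => ?_,
        fun j hj z hz => comm_mul (g3 j hj z hz) (hm.out j hj z hz), fun j hj => ?_⟩
      · rw [Finset.mem_insert, not_or] at hjs
        exact comm_mul (g2 j hj hjs.2 w hw) (hm.cen j hj hjs.1 w hw)
      · rcases Finset.mem_insert.1 hj with rfl | hjs
        · rw [← cj_cj, hm']
          refine cj_eq_of_mem_normalizer (centralizer_le_normalizer _ ?_)
          refine mem_centralizer_iff.2 fun z hz => ?_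
          refine (g2 j hi his z ?_).symm
          rw [SetLike.mem_coe, mem_cj] at hz
          have h1 := conjW ((hP j hi).1 hf) ((h.co j).ZW hz)
          have e1 : f * (f⁻¹ * z * f) * f⁻¹ = z := by group
          rwa [e1] at h1
        · have hji : j ≠ i := by
            rintro rfl
            exact his hjs
          rw [← cj_cj]
          have h1 : cj m (Z j) = Z j := by
            refine cj_eq_of_mem_normalizer (centralizer_le_normalizer _ ?_)
            exact mem_centralizer_iff.2 fun z hz =>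
              (hm.cen j (hs j (Finset.mem_insert_of_mem hjs)) hji z ((h.co j).ZW hz)).symm
          rw [h1]
          exact g4 j hjs
  have := Fintype.ofFinite ι
  obtain ⟨g, hgM, g1, g2, g3, g4⟩ := key (Finset.univ.filter (· ∈ Ps)) fun i hi => (Finset.mem_filter.1 hi).2
  have h1 : g⁻¹ * f ∈ M := by
    refine h.NM _ fun j => ?_
    by_cases hj : j ∈ Ps
    · rw [← cj_cj, ← g4 j (Finset.mem_filter.2 ⟨Finset.mem_univ _, hj⟩), cj_inv_cj]
    · refine cj_eq_of_mem_normalizer (centralizer_le_normalizer _ ?_)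
      exact mem_centralizer_iff.2 fun z hz =>
        (comm_mul (comm_inv (g3 j hj z hz)) (hP' j hj f (mem_oddGen hf ho) z hz)).symm
  have h2 := mul_mem hgM h1
  rwa [mul_inv_cancel_left] at h2

end Thr

end Cfsg.Agent.Omega.OM.FourF

end

-- merged: Cfsg.Agent.Mrg.Omega.OM.FourF.Mod
section

/-!
# THEOREM F4 (#20047): the module facts from `NatK` and the coordinates `Cn`

`MD N B ZJ W Z z₀ f₀`: `V = ⊕ W i` a sum of natural `SL₂(F)`-modules for `P` (`NatK`), the rescaled coordinates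
`rs z₀ f₀ N.e` are without scalars for the Sylow group `S` (`Cn`).

* `MD.sl` : `SL₂(F)` is induced on `W i` by elements of `P` trivial on the other summands;
* `MD.full` : `B` induces all `(x + l y, y)`;
* `MD.act` : an element of `S` which normalises `Z i` acts on `W i` as `(s x + l s y, s y)`;
* `MD.act4` : the case `|F| = 4`.
-/

set_option autoImplicit false
set_option linter.unusedSectionVars false

namespace Cfsg.Agent.Omega.OM.FourF

open Subgroup Cfsg Cfsg.Agent.ZN.ChoiceBase Cfsg.Agent.ZN.ChoiceSit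
open Cfsg.Agent.ZN (o2)
open Cfsg.Agent.Lib.SL2Mat Cfsg.Agent.Omega.NatPair
open Cfsg.Agent.Omega.FFThm (NatK ActsSL)
open Cfsg.Agent.Omega.OM.YThm

/-- rescaling of a vector -/
def dl {F : Type*} [Field F] (a b : F) (x : Fin 2 → F) : Fin 2 → F := ![a⁻¹ * x 0, b⁻¹ * x 1]

section

variable {F : Type*} [Field F] {a b : F}

theorem dl_zero' (x : Fin 2 → F) : dl a b x 0 = a⁻¹ * x 0 := rfl

theorem dl_one' (x : Fin 2 → F) : dl a b x 1 = b⁻¹ * x 1 := rfl

theorem dl_add (x y : Fin 2 → F) : dl a b (x + y) = dl a b x + dl a b y := by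
  apply ext2
  · rw [dl_zero', Pi.add_apply, Pi.add_apply, dl_zero', dl_zero']; ring
  · rw [dl_one', Pi.add_apply, Pi.add_apply, dl_one', dl_one']; ring

theorem dl_inj (ha : a ≠ 0) (hb : b ≠ 0) {x y : Fin 2 → F} (h : dl a b x = dl a b y) : x = y := by
  have h0 := congrFun h 0
  have h1 := congrFun h 1
  rw [dl_zero', dl_zero'] at h0
  rw [dl_one', dl_one'] at h1
  exact ext2 (mul_left_cancel₀ (inv_ne_zero ha) h0) (mul_left_cancel₀ (inv_ne_zero hb) h1)

theorem dl_ap (ha : a ≠ 0) (hb : b ≠ 0) (A : Matrix.SpecialLinearGroup (Fin 2) F) :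
    ∃ A' : Matrix.SpecialLinearGroup (Fin 2) F, ∀ x, dl a b (ap A x) = ap A' (dl a b x) := by
  refine ⟨mk (ent A 0 0) (a⁻¹ * ent A 0 1 * b) (b⁻¹ * ent A 1 0 * a) (ent A 1 1) ?_, fun x => ?_⟩
  · have := det_eq A
    field_simp
    linear_combination this
  · apply ext2
    · rw [dl_zero', ap_zero', ap_zero', dl_zero', dl_one', mk_00, mk_01]
      field_simp
    · rw [dl_one', ap_one', ap_one', dl_zero', dl_one', mk_10, mk_11]
      field_simp

theorem dl_ap' (ha : a ≠ 0) (hb : b ≠ 0) (A' : Matrix.SpecialLinearGroup (Fin 2) F) :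
    ∃ A : Matrix.SpecialLinearGroup (Fin 2) F, ∀ x, dl a b (ap A x) = ap A' (dl a b x) := by
  refine ⟨mk (ent A' 0 0) (a * ent A' 0 1 * b⁻¹) (b * ent A' 1 0 * a⁻¹) (ent A' 1 1) ?_, fun x => ?_⟩
  · have := det_eq A'
    field_simp
    linear_combination this
  · apply ext2
    · rw [dl_zero', ap_zero', ap_zero', dl_zero', dl_one', mk_00, mk_01]
      field_simp
    · rw [dl_one', ap_one', ap_one', dl_zero', dl_one', mk_10, mk_11]
      field_simp

end

/-- The data. -/
structure MD {G : Type*} [Group G] {F : Type} [Field F] {S P V D : Subgroup G} {k : ℕ} (N : NatK F S P V D k)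
    (B ZJ : Subgroup G) (W Z : Fin k → Subgroup G) (z₀ f₀ : Fin k → F) : Prop where
  PV : P ≤ normalizer (V : Set G)
  SP : S ≤ P
  hz : ∀ i, z₀ i ≠ 0
  hf : ∀ i, f₀ i ≠ 0
  cn : Cn F S B V ZJ k (rs z₀ f₀ N.e)
  mem_W : ∀ i v, v ∈ W i ↔ v ∈ V ∧ ∀ j, j ≠ i → N.e v j = 0
  mem_Z : ∀ i v, v ∈ Z i ↔ v ∈ W i ∧ N.e v i 1 = 0

namespace MD

variable {G : Type*} [Group G] {F : Type} [Field F] {S P V D : Subgroup G} {k : ℕ} {N : NatK F S P V D k}
    {B ZJ : Subgroup G} {W Z : Fin k → Subgroup G} {z₀ f₀ : Fin k → F}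

/-- the coordinates on `W i` -/
def co (N : NatK F S P V D k) (z₀ f₀ : Fin k → F) (i : Fin k) (v : G) : F × F := (rs z₀ f₀ N.e v i 0, rs z₀ f₀ N.e v i 1)

theorem co_fst (i : Fin k) (v : G) : (co N z₀ f₀ i v).1 = (z₀ i)⁻¹ * N.e v i 0 := rfl

theorem co_snd (i : Fin k) (v : G) : (co N z₀ f₀ i v).2 = (f₀ i)⁻¹ * N.e v i 1 := rfl

variable (h : MD N B ZJ W Z z₀ f₀)
include h

theorem WV {i : Fin k} {v : G} (hv : v ∈ W i) : v ∈ V := ((h.mem_W i v).1 hv).1

theorem inj {v w : G} (hv : v ∈ V) (hw : w ∈ V) (he : N.e v = N.e w) : v = w := by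
  refine h.cn.toCd.eq_of hv hw ?_
  funext i m
  fin_cases m
  · show (z₀ i)⁻¹ * N.e v i 0 = (z₀ i)⁻¹ * N.e w i 0
    rw [he]
  · show (f₀ i)⁻¹ * N.e v i 1 = (f₀ i)⁻¹ * N.e w i 1
    rw [he]

theorem injW {i : Fin k} {v w : G} (hv : v ∈ W i) (hw : w ∈ W i) (he : N.e v i = N.e w i) : v = w := by
  refine h.inj (h.WV hv) (h.WV hw) ?_
  funext j
  by_cases hj : j = i
  · rw [hj]; exact he
  · rw [((h.mem_W i v).1 hv).2 j hj, ((h.mem_W i w).1 hw).2 j hj]

theorem surjW (i : Fin k) (x : Fin 2 → F) : ∃ v ∈ W i, N.e v i = x := by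
  classical
  obtain ⟨v, hv, he⟩ := N.surj (Function.update 0 i x)
  refine ⟨v, (h.mem_W i v).2 ⟨hv, fun j hj => ?_⟩, ?_⟩
  · rw [he, Function.update_of_ne hj]; rfl
  · rw [he, Function.update_self]

theorem co_mul {i : Fin k} {v w : G} (hv : v ∈ V) (hw : w ∈ V) :
    co N z₀ f₀ i (v * w) = co N z₀ f₀ i v + co N z₀ f₀ i w := by
  ext
  · rw [Prod.fst_add, co_fst, co_fst, co_fst, N.mul v hv w hw]
    simp only [Pi.add_apply]
    ring
  · rw [Prod.snd_add, co_snd, co_snd, co_snd, N.mul v hv w hw]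
    simp only [Pi.add_apply]
    ring

theorem co_inj {i : Fin k} {v w : G} (hv : v ∈ W i) (hw : w ∈ W i) (he : co N z₀ f₀ i v = co N z₀ f₀ i w) : v = w := by
  refine h.injW hv hw (ext2 ?_ ?_)
  · have := congrArg Prod.fst he
    rw [co_fst, co_fst] at this
    exact mul_left_cancel₀ (inv_ne_zero (h.hz i)) this
  · have := congrArg Prod.snd he
    rw [co_snd, co_snd] at this
    exact mul_left_cancel₀ (inv_ne_zero (h.hf i)) this

theorem co_surj (i : Fin k) (p : F × F) : ∃ v ∈ W i, co N z₀ f₀ i v = p := by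
  obtain ⟨v, hv, he⟩ := h.surjW i ![z₀ i * p.1, f₀ i * p.2]
  refine ⟨v, hv, ?_⟩
  ext
  · rw [co_fst, he]
    exact inv_mul_cancel_left₀ (h.hz i) _
  · rw [co_snd, he]
    exact inv_mul_cancel_left₀ (h.hf i) _

theorem co_Z {i : Fin k} {v : G} : v ∈ Z i ↔ v ∈ W i ∧ (co N z₀ f₀ i v).2 = 0 := by
  rw [h.mem_Z, co_snd]
  refine and_congr_right fun _ => ?_
  constructor
  · intro h1; rw [h1, mul_zero]
  · intro h1
    exact (mul_eq_zero.1 h1).resolve_left (inv_ne_zero (h.hf i))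

theorem exists_u (i : Fin k) : ∃ u ∈ Z i, co N z₀ f₀ i u = (1, 0) := by
  obtain ⟨u, hu, he⟩ := h.co_surj i (1, 0)
  exact ⟨u, h.co_Z.2 ⟨hu, by rw [he]⟩, he⟩

/-- The structure `Co`. -/
theorem toCo {i : Fin k} {u : G} (hu : u ∈ Z i) (he : co N z₀ f₀ i u = (1, 0)) :
    Co (W i) (Z i) u (co N z₀ f₀ i) where
  mul := fun v hv w hw => h.co_mul (h.WV hv) (h.WV hw)
  ker := fun v hv h0 => by
    refine h.co_inj hv (one_mem _) ?_
    have h1 := h.co_mul (i := i) (one_mem V) (one_mem V)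
    rw [mul_one] at h1
    rw [h0, left_eq_add.1 h1]
  surj := h.co_surj i
  memZ := fun v => h.co_Z
  uW := ((h.mem_Z i u).1 hu).1
  eu := he

/-- elements of `P` acting on `W i` as `A`, trivially on the other summands. -/
theorem lift_one (i : Fin k) (A : Matrix.SpecialLinearGroup (Fin 2) F) : ∃ g ∈ P, g ∈ normalizer (W i : Set G) ∧
    (∀ w ∈ W i, N.e (g * w * g⁻¹) i = ap A (N.e w i)) ∧ ∀ j, j ≠ i → ∀ w ∈ W j, g * w = w * g := by
  classical
  obtain ⟨g, hg, hgA, -⟩ := N.lift (Function.update 1 i A)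
  have hgV : ∀ v ∈ V, g * v * g⁻¹ ∈ V := fun v hv => (mem_normalizer_iff.1 (h.PV hg) v).1 hv
  have hgV' : ∀ v, g * v * g⁻¹ ∈ V → v ∈ V := fun v hv => (mem_normalizer_iff.1 (h.PV hg) v).2 hv
  have hz0 : ∀ B : Matrix.SpecialLinearGroup (Fin 2) F, ap B (0 : Fin 2 → F) = 0 := by
    intro B
    apply ext2
    · rw [ap_zero']; simp
    · rw [ap_one']; simp
  refine ⟨g, hg, ?_, fun w hw => ?_, fun j hj w hw => ?_⟩
  · rw [mem_normalizer_iff]
    intro v
    rw [h.mem_W, h.mem_W]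
    constructor
    · rintro ⟨h1, h2⟩
      refine ⟨hgV v h1, fun j hj => ?_⟩
      rw [hgA v h1, h2 j hj, hz0]
    · rintro ⟨h1, h2⟩
      have h3 := hgV' v h1
      refine ⟨h3, fun j hj => ?_⟩
      have h4 := h2 j hj
      rw [hgA v h3, Function.update_of_ne hj, Pi.one_apply, ap_one] at h4
      exact h4
  · rw [hgA w (h.WV hw), Function.update_self]
  · have h1 := h.WV hw
    have h2 : g * w * g⁻¹ = w := by
      refine h.inj (hgV w h1) h1 ?_
      funext l
      rw [hgA w h1]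
      by_cases hl : l = i
      · subst hl
        rw [((h.mem_W j w).1 hw).2 l (Ne.symm hj), hz0]
      · rw [Function.update_of_ne hl, Pi.one_apply, ap_one]
    exact mul_inv_eq_iff_eq_mul.1 h2

/-- (SL) -/
theorem sl (i : Fin k) (a b c d : F) (hd : a * d - b * c = 1) : ∃ g ∈ P, g ∈ normalizer (W i : Set G) ∧
    Act (W i) (co N z₀ f₀ i) g (fun p => (a * p.1 + b * p.2, c * p.1 + d * p.2)) ∧
      ∀ j, j ≠ i → ∀ w ∈ W j, g * w = w * g := by
  obtain ⟨A, hA⟩ := dl_ap' (h.hz i) (h.hf i) (Cfsg.Agent.Lib.SL2Mat.mk a b c d hd)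
  obtain ⟨g, hg, h1, h2, h3⟩ := h.lift_one i A
  refine ⟨g, hg, h1, fun w hw => ?_, h3⟩
  have h4 := hA (N.e w i)
  rw [← h2 w hw] at h4
  have h5 := congrFun h4 0
  have h6 := congrFun h4 1
  rw [dl_zero', ap_zero', mk_00, mk_01] at h5
  rw [dl_one', ap_one', mk_10, mk_11] at h6
  ext
  · rw [co_fst]; exact h5
  · rw [co_snd]; exact h6

/-- `B` acts on `W i` as all `(x + l y, y)` -/
theorem full (i : Fin k) (l : F) : ∃ b ∈ B, Act (W i) (co N z₀ f₀ i) b (fun p => (p.1 + l * p.2, p.2)) := by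
  obtain ⟨b, hb, hc⟩ := h.cn.full fun _ => l
  refine ⟨b, hb, fun w hw => ?_⟩
  obtain ⟨h1, h2⟩ := hc w (h.WV hw) i
  ext
  · exact h1
  · exact h2

/-- an element of `S` which normalises `Z i` normalises `W i` -/
theorem nW {t : G} (ht : t ∈ S) {i : Fin k} (hZ : cj t (Z i) = Z i) : t ∈ normalizer (W i : Set G) := by
  have hV : ∀ v, t * v * t⁻¹ ∈ V ↔ v ∈ V := fun v => (mem_normalizer_iff.1 (h.PV (h.SP ht)) v).symm
  obtain ⟨σ, hσ⟩ := N.perm t (h.SP ht)
  obtain ⟨u, hu, hue⟩ := h.exists_u i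
  have huW := ((h.mem_Z i u).1 hu).1
  have hui : N.e u i ≠ 0 := by
    intro h0
    have h1 := congrArg Prod.fst hue
    rw [co_fst, h0] at h1
    simp at h1
  have htu : t * u * t⁻¹ ∈ Z i := by
    rw [← hZ]
    exact ⟨u, hu, rfl⟩
  have hσi : σ i = i := by
    by_contra hne
    apply hui
    rw [← hσ u (h.WV huW) i]
    exact ((h.mem_W i _).1 ((h.mem_Z i _).1 htu).1).2 _ hne
  rw [mem_normalizer_iff]
  intro v
  rw [h.mem_W, h.mem_W, hV]
  refine and_congr_right fun hv => ?_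
  constructor
  · intro h1 j hj
    have h2 := hσ v hv (σ.symm j)
    rw [Equiv.apply_symm_apply] at h2
    rw [h2]
    refine h1 _ fun h3 => hj ?_
    rw [← h3, Equiv.apply_symm_apply] at hσi
    exact hσi.trans h3
  · intro h1 j hj
    rw [← hσ v hv j]
    refine h1 _ fun h3 => hj ?_
    exact σ.injective (h3.trans hσi.symm)

/-- `t ∈ S` normalising `Z i` acts on `W i` semilinearly. -/
theorem semi [Finite F] {t : G} (ht : t ∈ S) {i : Fin k} (hZ : cj t (Z i) = Z i) :
    ∃ s : F ≃+* F, ∀ (c : F) (v w : G), v ∈ W i → w ∈ W i → N.e w i = c • N.e v i →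
      N.e (t * w * t⁻¹) i = s c • N.e (t * v * t⁻¹) i := by
  classical
  have hN := h.nW ht hZ
  have htP := h.SP ht
  choose f hfW hf using h.surjW i
  have hfe : ∀ v ∈ W i, f (N.e v i) = v := fun v hv => h.injW (hfW _) hv (hf _)
  let T : (Fin 2 → F) → (Fin 2 → F) := fun x => N.e (t * f x * t⁻¹) i
  let T' : (Fin 2 → F) → (Fin 2 → F) := fun x => N.e (t⁻¹ * f x * t⁻¹⁻¹) i
  have hTe : ∀ v ∈ W i, T (N.e v i) = N.e (t * v * t⁻¹) i := fun v hv => by
    show N.e (t * f (N.e v i) * t⁻¹) i = _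
    rw [hfe v hv]
  have hTe' : ∀ v ∈ W i, T' (N.e v i) = N.e (t⁻¹ * v * t⁻¹⁻¹) i := fun v hv => by
    show N.e (t⁻¹ * f (N.e v i) * t⁻¹⁻¹) i = _
    rw [hfe v hv]
  have hadd : ∀ x y, T (x + y) = T x + T y := by
    intro x y
    have h1 : f (x + y) = f x * f y := h.injW (hfW _) (mul_mem (hfW _) (hfW _)) (by
      rw [hf, N.mul _ (h.WV (hfW x)) _ (h.WV (hfW y)), Pi.add_apply, hf, hf])
    show N.e (t * f (x + y) * t⁻¹) i = N.e (t * f x * t⁻¹) i + N.e (t * f y * t⁻¹) i
    rw [← Pi.add_apply, ← N.mul _ (h.WV (conjW hN (hfW x))) _ (h.WV (conjW hN (hfW y))), h1]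
    have e3 : t * (f x * f y) * t⁻¹ = t * f x * t⁻¹ * (t * f y * t⁻¹) := by group
    rw [e3]
  have k1 : ∀ x, T' (T x) = x := by
    intro x
    have e1 : T x = N.e (t * f x * t⁻¹) i := rfl
    rw [e1, hTe' _ (conjW hN (hfW x))]
    have e2 : t⁻¹ * (t * f x * t⁻¹) * t⁻¹⁻¹ = f x := by group
    rw [e2, hf]
  have k2 : ∀ x, T (T' x) = x := by
    intro x
    have e1 : T' x = N.e (t⁻¹ * f x * t⁻¹⁻¹) i := rfl
    rw [e1, hTe _ (conjW (inv_mem hN) (hfW x))]
    have e2 : t * (t⁻¹ * f x * t⁻¹⁻¹) * t⁻¹ = f x := by group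
    rw [e2, hf]
  have k3 : ∀ A : Matrix.SpecialLinearGroup (Fin 2) F, ∃ B : Matrix.SpecialLinearGroup (Fin 2) F,
      ∀ x, T' (ap A (T x)) = ap B x := by
    intro A
    obtain ⟨g, hg, hgA, -⟩ := N.lift (Function.update 1 i A)
    obtain ⟨B', hB'⟩ := N.norm t⁻¹ (inv_mem htP) g hg _ fun v hv j => hgA v hv j
    refine ⟨B' i, fun x => ?_⟩
    have hgW : ∀ w ∈ W i, g * w * g⁻¹ ∈ W i := by
      intro w hw
      refine (h.mem_W i _).2 ⟨(mem_normalizer_iff.1 (h.PV hg) w).1 (h.WV hw), fun j hj => ?_⟩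
      rw [hgA w (h.WV hw), ((h.mem_W i w).1 hw).2 j hj]
      apply ext2
      · rw [ap_zero']; simp
      · rw [ap_one']; simp
    have e1 : T x = N.e (t * f x * t⁻¹) i := rfl
    have e2 : ap A (T x) = N.e (g * (t * f x * t⁻¹) * g⁻¹) i := by
      rw [e1, hgA _ (h.WV (conjW hN (hfW x))), Function.update_self]
    rw [e2, hTe' _ (hgW _ (conjW hN (hfW x)))]
    have e3 := hB' (f x) (h.WV (hfW x)) i
    rw [hf] at e3
    rw [← e3]
    have e4 : t⁻¹ * (g * (t * f x * t⁻¹) * g⁻¹) * t⁻¹⁻¹ = t⁻¹ * g * t⁻¹⁻¹ * f x * (t⁻¹ * g * t⁻¹⁻¹)⁻¹ := by group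
    rw [e4]
  obtain ⟨σ, hσ⟩ := exists_semi T T' hadd k1 k2 k3
  obtain ⟨s, hs⟩ := exists_ringEquiv T T' hadd k1 σ hσ
  refine ⟨s, fun c v w hv hw hvw => ?_⟩
  rw [← hTe w hw, ← hTe v hv, hvw, hs]

/-- the action of `t ∈ S` normalising `Z i` on `W i` -/
theorem act [Finite F] {t : G} (ht : t ∈ S) {i : Fin k} (hZ : cj t (Z i) = Z i) :
    ∃ (s : F ≃+* F) (l : F), Act (W i) (co N z₀ f₀ i) t (fun p => (s p.1 + l * s p.2, s p.2)) := by
  have hN := h.nW ht hZ
  obtain ⟨s, hs⟩ := h.semi ht hZ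
  obtain ⟨π, σ, hπ⟩ := h.cn.sact t ht
  have hV : ∀ v ∈ V, t * v * t⁻¹ ∈ V := fun v hv => (mem_normalizer_iff.1 (h.PV (h.SP ht)) v).1 hv
  have hZJ : ∀ v, v ∈ Z i → v ∈ ZJ := by
    intro v hv
    obtain ⟨h1, h2⟩ := (h.mem_Z i v).1 hv
    refine (h.cn.memZ v (h.WV h1)).2 fun j => ?_
    by_cases hj : j = i
    · subst hj
      exact (h.co_Z.1 hv).2
    · show (f₀ j)⁻¹ * N.e v j 1 = 0
      rw [((h.mem_W i v).1 h1).2 j hj]
      simp
  obtain ⟨u, hu, hue⟩ := h.exists_u i
  have hue0 : rs z₀ f₀ N.e u i 0 = 1 := congrArg Prod.fst hue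
  have hue1 : rs z₀ f₀ N.e u i 1 = 0 := congrArg Prod.snd hue
  have huW := ((h.mem_Z i u).1 hu).1
  have htu : t * u * t⁻¹ ∈ Z i := by
    rw [← hZ]
    exact ⟨u, hu, rfl⟩
  have hπi : π i = i := by
    by_contra hne
    have h1 := hπ.zero u (hZJ u hu) i
    rw [hue0, Pi.one_apply, one_mul, map_one] at h1
    have h2 := ((h.mem_W i _).1 ((h.mem_Z i _).1 htu).1).2 _ hne
    rw [rs_zero, h2] at h1
    simp at h1
  -- the second basis vector
  obtain ⟨w₁, hw₁, hwe⟩ := h.co_surj i (0, 1)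
  have hwe0 : rs z₀ f₀ N.e w₁ i 0 = 0 := congrArg Prod.fst hwe
  have hwe1 : rs z₀ f₀ N.e w₁ i 1 = 1 := congrArg Prod.snd hwe
  have htw : t * w₁ * t⁻¹ ∈ W i := conjW hN hw₁
  -- multiples
  have hsm : ∀ (c : F) (v w : G), v ∈ W i → w ∈ W i → co N z₀ f₀ i w = c • co N z₀ f₀ i v →
      co N z₀ f₀ i (t * w * t⁻¹) = s c • co N z₀ f₀ i (t * v * t⁻¹) := by
    intro c v w hv hw hcw
    have h1 : N.e w i = c • N.e v i := by
      apply ext2
      · have := congrArg Prod.fst hcw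
        rw [Prod.smul_fst, co_fst, co_fst, smul_eq_mul] at this
        rw [Pi.smul_apply, smul_eq_mul]
        apply mul_left_cancel₀ (inv_ne_zero (h.hz i))
        rw [this]; ring
      · have := congrArg Prod.snd hcw
        rw [Prod.smul_snd, co_snd, co_snd, smul_eq_mul] at this
        rw [Pi.smul_apply, smul_eq_mul]
        apply mul_left_cancel₀ (inv_ne_zero (h.hf i))
        rw [this]; ring
    have h2 := hs c v w hv hw h1
    ext
    · rw [Prod.smul_fst, co_fst, co_fst, h2, Pi.smul_apply, smul_eq_mul, smul_eq_mul]; ring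
    · rw [Prod.smul_snd, co_snd, co_snd, h2, Pi.smul_apply, smul_eq_mul, smul_eq_mul]; ring
  -- images of the basis vectors
  have hu1 : co N z₀ f₀ i (t * u * t⁻¹) = (1, 0) := by
    ext
    · show rs z₀ f₀ N.e (t * u * t⁻¹) i 0 = 1
      have h1 := hπ.zero u (hZJ u hu) i
      rwa [hπi, hue0, Pi.one_apply, one_mul, map_one] at h1
    · exact (h.co_Z.1 htu).2
  have hw1 : (co N z₀ f₀ i (t * w₁ * t⁻¹)).2 = 1 := by
    show rs z₀ f₀ N.e (t * w₁ * t⁻¹) i 1 = 1
    have h1 := hπ.one w₁ (h.WV hw₁) i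
    rwa [hπi, hwe1, Pi.one_apply, one_mul, map_one] at h1
  refine ⟨s, (co N z₀ f₀ i (t * w₁ * t⁻¹)).1, fun w hw => ?_⟩
  obtain ⟨a, ha, hae⟩ := h.co_surj i ((co N z₀ f₀ i w).1, 0)
  obtain ⟨b, hb, hbe⟩ := h.co_surj i (0, (co N z₀ f₀ i w).2)
  have hab : w = a * b := by
    refine h.co_inj hw (mul_mem ha hb) ?_
    rw [h.co_mul (h.WV ha) (h.WV hb), hae, hbe]
    ext <;> simp
  have h1 := hsm (co N z₀ f₀ i w).1 u a huW ha (by rw [hae, hue]; ext <;> simp)
  have h2 := hsm (co N z₀ f₀ i w).2 w₁ b hw₁ hb (by rw [hbe, hwe]; ext <;> simp)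
  have e1 : t * w * t⁻¹ = (t * a * t⁻¹) * (t * b * t⁻¹) := by rw [hab]; group
  rw [e1, h.co_mul (hV a (h.WV ha)) (hV b (h.WV hb)), h1, h2, hu1]
  ext
  · simp only [Prod.fst_add, Prod.smul_fst, smul_eq_mul, mul_one]
    ring
  · simp only [Prod.snd_add, Prod.smul_snd, smul_eq_mul, mul_zero, zero_add, hw1, mul_one]

end MD

/-- the automorphisms of a field of order 4 -/
theorem aut4 {F : Type*} [Field F] [CharP F 2] (hF : Nat.card F = 4) (s : F ≃+* F) :
    (∀ x, s x = x) ∨ ∀ x, s x = x * x := by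
  obtain ⟨y, hy0, hy1⟩ := exists_om hF
  have hr := root hF hy0 hy1
  rcases cases4 hF hy0 hy1 (s y) with h | h | h | h
  · exact absurd ((map_eq_zero s).1 h) hy0
  · exact absurd (s.injective (h.trans (map_one s).symm)) hy1
  · left
    intro x
    rcases cases4 hF hy0 hy1 x with h1 | h1 | h1 | h1
    · rw [h1, map_zero]
    · rw [h1, map_one]
    · rw [h1, h]
    · rw [h1, map_add, h, map_one]
  · right
    intro x
    rcases cases4 hF hy0 hy1 x with h1 | h1 | h1 | h1
    · rw [h1, map_zero, mul_zero]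
    · rw [h1, map_one, mul_one]
    · rw [h1, h, hr]
    · rw [h1, map_add, h, map_one]
      linear_combination (-1 : F) * hr - y * two0 (K := F)

/-- the action on `W i` for `|F| = 4` -/
theorem MD.act4 {G : Type*} [Group G] {F : Type} [Field F] [CharP F 2] {S P V D : Subgroup G} {k : ℕ}
    {N : NatK F S P V D k} {B ZJ : Subgroup G} {W Z : Fin k → Subgroup G} {z₀ f₀ : Fin k → F}
    (h : MD N B ZJ W Z z₀ f₀) (hF : Nat.card F = 4) {t : G} (ht : t ∈ S) {i : Fin k} (hZ : cj t (Z i) = Z i) :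
    ∃ l : F, Act (W i) (MD.co N z₀ f₀ i) t (fun p => (p.1 + l * p.2, p.2)) ∨
      Act (W i) (MD.co N z₀ f₀ i) t (fun p => (p.1 * p.1 + l * (p.2 * p.2), p.2 * p.2)) := by
  have : Finite F := Nat.finite_of_card_ne_zero (by omega)
  obtain ⟨s, l, hl⟩ := h.act ht hZ
  refine ⟨l, ?_⟩
  rcases aut4 hF s with hs | hs
  · left
    intro w hw
    rw [hl w hw]
    simp only [hs]
  · right
    intro w hw
    rw [hl w hw]
    simp only [hs]

end Cfsg.Agent.Omega.OM.FourF

end
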